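import Groth.Agent.H6RP.AddL
import Groth.Agent.KFlatLib.Scheme.RGammaPush
import Groth.Agent.Exactness.Functor
import Groth.Agent.AmpleVan.Tw
import Groth.Agent.InvX.Tensor
import Groth.Agent.DQGen.Compact

/-!
# Powers of an ample module detect objects with quasi-coherent cohomology
-/

set_option autoImplicit false
set_option linter.style.haveILetI false
set_option linter.unusedSectionVars false
set_option backward.isDefEq.respectTransparency false
set_option backward.isDefEq.respectTransparency.types false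

universe u v w

open CategoryTheory CategoryTheory.Limits AlgebraicGeometry Opposite HomologicalComplex

noncomputable section

namespace Groth.Agent.H6CG

open Groth.Agent

attribute [local instance] HasDerivedCategory.standard CategoryTheory.Abelian.hasFiniteBiproducts

section Abelian

variable {A : Type u} [Category.{v} A] [Abelian A]

/-- Cocycles with source `M` are coboundaries. -/
def CocyZero (I : CochainComplex A ℤ) (M : A) : Prop :=
  ∀ (p : ℤ) (φ : M ⟶ I.X p), φ ≫ I.d p (p + 1) = 0 → ∃ w : M ⟶ I.X (p - 1), w ≫ I.d (p - 1) p = φ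

theorem CocyZero.biproduct {I : CochainComplex A ℤ} {k : ℕ} {N : Fin k → A} (h : ∀ j, CocyZero I (N j)) :
    CocyZero I (⨁ N) := fun p φ hφ => by
  choose w hw using fun j => h j p (biproduct.ι N j ≫ φ) (by rw [Category.assoc, hφ, comp_zero])
  exact ⟨biproduct.desc w, biproduct.hom_ext' _ _ fun j => by rw [biproduct.ι_desc_assoc, hw]⟩

theorem CocyZero.of_iso {I : CochainComplex A ℤ} {M N : A} (e : M ≅ N) (h : CocyZero I N) : CocyZero I M :=
  fun p φ hφ => by
    obtain ⟨w, hw⟩ := h p (e.inv ≫ φ) (by rw [Category.assoc, hφ, comp_zero])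
    exact ⟨e.hom ≫ w, by rw [Category.assoc, hw, Iso.hom_inv_id_assoc]⟩

/-- Maps from a bounded above complex with such terms are null homotopic. -/
theorem nonempty_homotopy_zero {E I : CochainComplex A ℤ} (b : ℤ) (hb : ∀ i, b < i → IsZero (E.X i))
    (hE : ∀ i, CocyZero I (E.X i)) (ψ : E ⟶ I) : Nonempty (Homotopy ψ 0) := by
  classical
  let Good : ℕ → (∀ i j, E.X i ⟶ I.X j) → Prop := fun k h =>
    (∀ i j, j + 1 ≠ i → h i j = 0) ∧
    ∀ i, b - k < i → ψ.f i = E.d i (i + 1) ≫ h (i + 1) i + h i (i - 1) ≫ I.d (i - 1) i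
  have key : ∀ (k : ℕ) (h : {h // Good k h}), ∃ h' : {h // Good (k + 1) h},
      ∀ i j, b - k < i → h'.1 i j = h.1 i j := by
    rintro k ⟨h, hz, heq⟩
    let i₀ := b - (k : ℤ)
    obtain ⟨w, hw⟩ := hE i₀ i₀ (ψ.f i₀ - E.d i₀ (i₀ + 1) ≫ h (i₀ + 1) i₀) (by
      have h1 := heq (i₀ + 1) (by omega)
      rw [show i₀ + 1 - 1 = i₀ by omega] at h1
      rw [Preadditive.sub_comp, ψ.comm, Category.assoc, h1]
      simp only [Preadditive.comp_add, HomologicalComplex.d_comp_d_assoc, zero_comp,
        zero_add, sub_self])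
    let h' : ∀ i j, E.X i ⟶ I.X j := fun i j =>
      if e : i = i₀ ∧ j = i₀ - 1 then eqToHom (congrArg E.X e.1) ≫ w ≫ eqToHom (congrArg I.X e.2.symm)
      else h i j
    have hne : ∀ i j, i ≠ i₀ → h' i j = h i j := fun i j hi => dif_neg fun e => hi e.1
    refine ⟨⟨h', fun i j hij => ?_, fun i hi => ?_⟩, fun i j hi => hne i j (by omega)⟩
    · show dite _ _ _ = _
      rw [dif_neg (fun e => hij (by omega))]
      exact hz i j hij
    · by_cases hii : i = i₀
      · subst hii
        rw [hne _ _ (by omega)]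
        show _ = _ + dite _ _ _ ≫ _
        rw [dif_pos ⟨rfl, rfl⟩, eqToHom_refl, eqToHom_refl, Category.id_comp, Category.comp_id, hw,
          add_sub_cancel]
      · rw [hne _ _ (by omega), hne _ _ hii]
        exact heq i (by push_cast at hi; omega)
  have h0 : Good 0 (fun _ _ => 0) :=
    ⟨fun _ _ _ => rfl, fun i hi => (hb i (by simpa using hi)).eq_of_src _ _⟩
  choose nxt hnxt using key
  let H : (k : ℕ) → {h // Good k h} := fun k => Nat.rec (motive := fun k => {h // Good k h})
    ⟨_, h0⟩ (fun k h => nxt k h) k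
  have stab : ∀ k l : ℕ, k ≤ l → ∀ i j, b - k < i → (H l).1 i j = (H k).1 i j := by
    intro k l hl
    induction l, hl using Nat.le_induction with
    | base => exact fun _ _ _ => rfl
    | succ l hl ih => exact fun i j hi => (hnxt l (H l) i j (by omega)).trans (ih i j hi)
  let g : ∀ i j, E.X i ⟶ I.X j := fun i j => (H ((b - i).toNat + 1)).1 i j
  refine ⟨{ hom := g, zero := fun i j hij => (H ((b - i).toNat + 1)).2.1 i j hij, comm := fun i => ?_ }⟩
  rw [dNext_eq g (show (ComplexShape.up ℤ).Rel i (i + 1) from rfl),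
    prevD_eq g (show (ComplexShape.up ℤ).Rel (i - 1) i from sub_add_cancel i 1), HomologicalComplex.zero_f,
    add_zero]
  show ψ.f i = E.d i (i + 1) ≫ (H ((b - (i + 1)).toNat + 1)).1 (i + 1) i + (H ((b - i).toNat + 1)).1 i (i - 1) ≫ I.d (i - 1) i
  have := (H ((b - i).toNat + 1)).2.2 i (by omega)
  rw [← stab ((b - (i + 1)).toNat + 1) ((b - i).toNat + 1) (by omega) (i + 1) i (by omega)]
  exact this

/-- An equivalence preserves K-injective complexes. -/
theorem isKInjective_map {B : Type w} [Category.{v} B] [Abelian B] (T : A ⥤ B) [T.IsEquivalence] [T.Additive]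
    (I : CochainComplex A ℤ) [I.IsKInjective] :
    CochainComplex.IsKInjective ((T.mapHomologicalComplex (ComplexShape.up ℤ)).obj I) := by
  constructor
  intro K φ hK
  let S := T.asEquivalence.inverse
  haveI : S.Additive := Functor.additive_of_preserves_binary_products _
  let adj : S ⊣ T := T.asEquivalence.symm.toAdjunction
  let K' := (S.mapHomologicalComplex (ComplexShape.up ℤ)).obj K
  let ψ : K' ⟶ I :=
    { f := fun i => (adj.homEquiv _ _).symm (φ.f i)
      comm' := fun i j _ => by
        change (adj.homEquiv _ _).symm (φ.f i) ≫ I.d i j = S.map (K.d i j) ≫ (adj.homEquiv _ _).symm (φ.f j)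
        rw [← adj.homEquiv_naturality_left_symm, ← adj.homEquiv_naturality_right_symm]
        exact congrArg _ (φ.comm i j) }
  have hK' : K'.Acyclic := fun n => by
    have h := hK n
    rw [HomologicalComplex.exactAt_iff] at h ⊢
    exact h.map S
  let G := T.mapHomologicalComplex (ComplexShape.up ℤ)
  let η : K ⟶ G.obj K' :=
    { f := fun i => adj.unit.app (K.X i)
      comm' := fun i j _ => (adj.unit.naturality (K.d i j)).symm }
  have hφ : φ = η ≫ G.map ψ := by
    ext i : 1
    exact ((adj.homEquiv_unit ..).symm.trans ((adj.homEquiv _ _).apply_symm_apply (φ.f i))).symm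
  exact ⟨(Homotopy.ofEq hφ).trans
    (((T.mapHomotopy (CochainComplex.IsKInjective.homotopyZero ψ hK')).compLeft η).trans
      (Homotopy.ofEq (by rw [Functor.map_zero, comp_zero])))⟩

/-- Maps out of a bounded above complex into a K-injective complex vanish. -/
theorem Q_hom_eq_zero [HasDerivedCategory.{w} A] {E I : CochainComplex A ℤ} [I.IsKInjective] (b : ℤ)
    (hb : ∀ i, b < i → IsZero (E.X i)) (hE : ∀ i, CocyZero I (E.X i))
    (φ : DerivedCategory.Q.obj E ⟶ DerivedCategory.Q.obj I) : φ = 0 := by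
  let e := DerivedCategory.quotientCompQhIso A
  obtain ⟨g, hg⟩ := (CochainComplex.IsKInjective.Qh_map_bijective
    ((HomotopyCategory.quotient _ _).obj E) I).2 (e.hom.app E ≫ φ ≫ e.inv.app I)
  obtain ⟨ψ, rfl⟩ := (HomotopyCategory.quotient _ _).map_surjective g
  obtain ⟨h⟩ := nonempty_homotopy_zero b hb hE ψ
  rw [HomotopyCategory.eq_of_homotopy _ _ h, Functor.map_zero, Functor.map_zero] at hg
  have := (cancel_epi (e.hom.app E)).1 ((hg.symm.trans comp_zero.symm : e.hom.app E ≫ φ ≫ e.inv.app I = e.hom.app E ≫ 0))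
  exact (cancel_mono (e.inv.app I)).1 (this.trans zero_comp.symm)

end Abelian

variable {X : Scheme.{u}}

/-- Cocycles of global sections of a K-injective complex with vanishing derived sections are coboundaries. -/
theorem cocyZero_structureModule [DCoh.HasRΓ X] (J : CochainComplex X.Modules ℤ) [J.IsKInjective]
    (h : ∀ p : ℤ, IsZero ((DerivedCategory.homologyFunctor AddCommGrpCat.{u} p).obj
      ((DCoh.RΓ X).obj (DerivedCategory.Q.obj J)))) : CocyZero J (Coh.structureModule X) := by
  intro p φ hφ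
  haveI := KFlatLib.isIso_rightDerivedUnit_of_kInjective (DCoh.gammaKh X) J
  let ΓJ := ((DCoh.gammaAb X).mapHomologicalComplex (ComplexShape.up ℤ)).obj J
  let e : DerivedCategory.Q.obj ΓJ ≅ (DCoh.RΓ X).obj (DerivedCategory.Q.obj J) :=
    ((DerivedCategory.quotientCompQhIso _).app ΓJ).symm ≪≫
      DerivedCategory.Qh.mapIso (((DCoh.gammaAb X).mapHomotopyCategoryFactors (ComplexShape.up ℤ)).app J).symm ≪≫
      asIso (((DCoh.gammaKh X).totalRightDerivedUnit DerivedCategory.Qh
        (HomotopyCategory.quasiIso X.Modules (ComplexShape.up ℤ))).app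
          ((HomotopyCategory.quotient X.Modules (ComplexShape.up ℤ)).obj J)) ≪≫
      (DCoh.RΓ X).mapIso ((DerivedCategory.quotientCompQhIso X.Modules).app J)
  have hex : ΓJ.ExactAt p := (exactAt_iff_isZero_homology _ _).2 ((h p).of_iso
    (((DerivedCategory.homologyFunctorFactors _ p).app ΓJ).symm ≪≫
      (DerivedCategory.homologyFunctor _ p).mapIso e))
  rw [exactAt_iff' ΓJ (p - 1) p (p + 1) (by simp) (by simp), ShortComplex.ab_exact_iff] at hex
  obtain ⟨y, hy⟩ := hex (KFlatLib.topEquiv (J.X p) φ) (by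
    show (DCoh.gammaAb X).map (J.d p (p + 1)) (KFlatLib.topEquiv (J.X p) φ) = 0
    rw [← KFlatLib.topEquiv_naturality, hφ, KFlatLib.topEquiv_zero])
  obtain ⟨w, rfl⟩ := (KFlatLib.topEquiv (J.X (p - 1))).surjective y
  exact ⟨w, (KFlatLib.topEquiv (J.X p)).injective ((KFlatLib.topEquiv_naturality w _).trans hy)⟩

/-- Cocycles with source a negative power are coboundaries. -/
theorem cocyZero_of_negPower [DCoh.HasRΓ X] {N P : X.Modules} (hP : PicF.IsInvertible P)
    [DCoh.HasLTensorMod P] (e : CohB1.tensorMod N P ≅ Coh.structureModule X) (K : DCoh.D X)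
    {I : CochainComplex X.Modules ℤ} [I.IsKInjective] (f : KFlatLib.repK K ⟶ I) [QuasiIso f]
    (h : ∀ p : ℤ, IsZero ((DerivedCategory.homologyFunctor AddCommGrpCat.{u} p).obj
      ((DCoh.RΓ X).obj ((DCoh.LTensorMod P).obj K)))) : CocyZero I N := by
  let T := DCoh.tensorRightMod P
  haveI : T.IsEquivalence :=
    haveI := AmpleVan.isEquivalence_tw hP
    Functor.isEquivalence_of_iso (Exactness.flipTensorIso P)
  let J := (T.mapHomologicalComplex (ComplexShape.up ℤ)).obj I
  haveI : CochainComplex.IsKInjective J := isKInjective_map T I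
  haveI := KFlatLib.isIso_ltensorModComparison P (KFlatLib.isKFlat_repK K)
  haveI : QuasiIso ((T.mapHomologicalComplex (ComplexShape.up ℤ)).map f) := by
    rw [quasiIso_iff]
    intro i
    infer_instance
  let eJ : (DCoh.LTensorMod P).obj K ≅ DerivedCategory.Q.obj J :=
    (DCoh.LTensorMod P).mapIso (KFlatLib.repKIso K).symm ≪≫
      asIso ((KFlatLib.ltensorModComparison P).app (KFlatLib.repK K)) ≪≫
      @asIso _ _ _ _ (DerivedCategory.Q.map ((T.mapHomologicalComplex (ComplexShape.up ℤ)).map f))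
        (KFlatLib.isIso_Q_map _ inferInstance)
  have hO : CocyZero J (Coh.structureModule X) := cocyZero_structureModule J fun p => (h p).of_iso
    ((DerivedCategory.homologyFunctor AddCommGrpCat.{u} p).mapIso ((DCoh.RΓ X).mapIso eJ.symm))
  have hN : CocyZero J (T.obj N) := hO.of_iso e
  intro p φ hφ
  obtain ⟨w, hw⟩ := hN p (T.map φ) (by
    show T.map φ ≫ T.map (I.d p (p + 1)) = 0
    rw [← T.map_comp, hφ, T.map_zero])
  obtain ⟨w', rfl⟩ := T.map_surjective w
  exact ⟨w', T.map_injective ((T.map_comp _ _).trans hw)⟩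

/-- Powers of an ample module detect zero objects. -/
theorem isZero_of_twists [DCoh.HasRΓ X] (L : X.Modules) (hL : KSix.IsAmpleFamily (fun _ : PUnit.{u + 1} => L))
    [∀ n : ℕ, DCoh.HasLTensorMod (CohB1.tensorPow L n)] (K : DCoh.D X) (hK : DCoh.IsQCohD K)
    (h : ∀ (n : ℕ) (p : ℤ), IsZero ((DerivedCategory.homologyFunctor AddCommGrpCat.{u} p).obj
      ((DCoh.RΓ X).obj ((DCoh.LTensorMod (CohB1.tensorPow L n)).obj K)))) : IsZero K := by
  haveI := hL.1
  haveI := hL.2.1
  obtain ⟨I, f, hI, hf, -, -⟩ := TriCat.exists_kInjective_resolution' (KFlatLib.repK K)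
  haveI := hI
  haveI := hf
  let eI : K ≅ DerivedCategory.Q.obj I :=
    (KFlatLib.repKIso K).symm ≪≫ @asIso _ _ _ _ (DerivedCategory.Q.map f) (KFlatLib.isIso_Q_map _ inferInstance)
  have hcy : ∀ M, H6RP.addLInv (fun _ : PUnit.{u + 1} => L) M → CocyZero I M := fun M hM => by
    obtain ⟨k, N, hN, ⟨e⟩⟩ := hM
    refine (CocyZero.biproduct fun j => ?_).of_iso e
    obtain ⟨i, n, hn, ⟨e'⟩⟩ := (hN j).2
    exact cocyZero_of_negPower (InvX.isInvertible_tensorPow (hL.2.2.1 PUnit.unit) n) e' K f (h n)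
  obtain ⟨P, hP, hdet⟩ := DQGen.exists_generator (X := X) (W := ⊥) (by simp)
  refine (hdet K ⟨hK, DQGen.isZero_rho_bot K⟩).2 fun m φ => ?_
  obtain ⟨a, b, -, hz⟩ := H6RP.exists_bounds hP.1
  obtain ⟨E, hEz, hEP, ⟨eE⟩⟩ := (H6RP.genClass_addL _ hL).exists_resolution P
    (fun k => ((KFlatLib.isPerfect_iff P).1 hP.1).locPC k) a b hz
  let e : DerivedCategory.Q.obj (E⟦m⟧) ≅ P⟦m⟧ :=
    (DerivedCategory.Q.commShiftIso m).app E ≪≫ (shiftFunctor (DCoh.D X) m).mapIso eE
  have := Q_hom_eq_zero (I := I) (b - m) (E := E⟦m⟧) (fun i hi => hEz (i + m) (by omega))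
    (fun i => hcy _ (hEP (i + m))) (e.hom ≫ φ ≫ eI.hom)
  rwa [Preadditive.IsIso.comp_left_eq_zero, Preadditive.IsIso.comp_right_eq_zero] at this

end Groth.Agent.H6CG
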