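import Groth.Agent.H6RP.Gen
import Groth.Agent.H9Misc.BrownGroth
import Groth.Agent.KFlatLib.BrutalTrunc
import Groth.Prelude.Def_CohDer

/-!
# Compact objects of derived categories with a compact generating class
-/

set_option autoImplicit false
set_option linter.style.haveILetI false
set_option linter.unusedSectionVars false
set_option backward.isDefEq.respectTransparency false
set_option backward.isDefEq.respectTransparency.types false

universe v u

open CategoryTheory CategoryTheory.Limits Opposite HomologicalComplex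
open CategoryTheory.Pretriangulated

noncomputable section

namespace Groth.Agent.H6CG

open Groth.Agent

variable {A : Type u} [Category.{v} A] [Abelian A] [IsGrothendieckAbelian.{v} A] [HasCoproducts.{v} A]

section Hom

/-- A map from an object whose `Hom` commutes with sums meets finitely many summands. -/
theorem exists_finset_hom {E : A} {ι : Type v}
    [PreservesColimitsOfShape (Discrete ι) (preadditiveCoyoneda.obj (op E))] {Y : ι → A}
    (f : E ⟶ ∐ Y) :
    ∃ s : Finset ι, ∀ {T : A} (π : ∐ Y ⟶ T), (∀ j ∈ s, Sigma.ι Y j ≫ π = 0) → f ≫ π = 0 := by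
  classical
  let G : AddSubgroup (E ⟶ ∐ Y) := {
    carrier := {f | ∃ s : Finset ι, ∀ {T : A} (π : ∐ Y ⟶ T), (∀ j ∈ s, Sigma.ι Y j ≫ π = 0) → f ≫ π = 0}
    add_mem' := by
      rintro a b ⟨s, hs⟩ ⟨t, ht⟩
      exact ⟨s ∪ t, fun π h => by
        rw [Preadditive.add_comp, hs π fun j hj => h j (Finset.mem_union_left _ hj),
          ht π fun j hj => h j (Finset.mem_union_right _ hj), add_zero]⟩
    zero_mem' := ⟨∅, fun π _ => zero_comp⟩
    neg_mem' := by
      rintro a ⟨s, hs⟩
      exact ⟨s, fun π h => by rw [Preadditive.neg_comp, hs π h, neg_zero]⟩ }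
  let Φ := preadditiveCoyoneda.obj (op E)
  let q : Φ.obj (∐ Y) ⟶ AddCommGrpCat.of ((E ⟶ ∐ Y) ⧸ G) :=
    AddCommGrpCat.ofHom (QuotientAddGroup.mk' G)
  have hq : q = 0 := (isColimitOfPreserves Φ (coproductIsCoproduct Y)).hom_ext fun j => by
    ext x
    refine (QuotientAddGroup.eq_zero_iff _).2 ?_
    exact ⟨{j.as}, fun π h => (Category.assoc _ _ _).trans
      ((congrArg (x ≫ ·) (h j.as (Finset.mem_singleton_self _))).trans comp_zero)⟩
  exact (QuotientAddGroup.eq_zero_iff f).1 (ConcreteCategory.congr_hom hq f)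

/-- A map from a finite sum of such objects meets finitely many summands. -/
theorem exists_finset_of_biproduct {n : ℕ} {E : Fin n → A} [HasBiproduct E] {ι : Type v}
    (hE : ∀ k, PreservesColimitsOfShape (Discrete ι) (preadditiveCoyoneda.obj (op (E k))))
    {Y : ι → A} (f : ⨁ E ⟶ ∐ Y) :
    ∃ s : Finset ι, ∀ {T : A} (π : ∐ Y ⟶ T), (∀ j ∈ s, Sigma.ι Y j ≫ π = 0) → f ≫ π = 0 := by
  classical
  choose s hs using fun k => haveI := hE k; exists_finset_hom (biproduct.ι E k ≫ f)
  refine ⟨Finset.univ.biUnion s, fun π h => biproduct.hom_ext' _ _ fun k => ?_⟩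
  rw [comp_zero, ← Category.assoc]
  exact hs k π fun j hj => h j (Finset.mem_biUnion.2 ⟨k, Finset.mem_univ k, hj⟩)

end Hom

section Derived

variable [HasDerivedCategory.{v} A] [HasCoproducts.{v} (DerivedCategory A)] {K : DerivedCategory A}

/-- A map from a compact object into a sum meets finitely many summands. -/
theorem exists_finset (hK : CohDer.IsCompactObject K) {ι : Type v} {Y : ι → CochainComplex A ℤ}
    (g : K ⟶ DerivedCategory.Q.obj (∐ Y)) :
    ∃ s : Finset ι, ∀ {T : DerivedCategory A} (π : DerivedCategory.Q.obj (∐ Y) ⟶ T),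
      (∀ j ∈ s, DerivedCategory.Q.map (Sigma.ι Y j) ≫ π = 0) → g ≫ π = 0 := by
  classical
  haveI := H9Misc.BrownGroth.preservesColimit_Q Y
  let Q : CochainComplex A ℤ ⥤ DerivedCategory A := DerivedCategory.Q
  let e := PreservesCoproduct.iso Q Y
  obtain ⟨x, hx⟩ := (hK ι _).2 (g ≫ e.hom)
  have key : ∀ x, ∃ s : Finset ι, ∀ {T : DerivedCategory A} (π : Q.obj (∐ Y) ⟶ T),
      (∀ j ∈ s, Q.map (Sigma.ι Y j) ≫ π = 0) →
        CohDer.homSumToHomCoprod K (fun j => Q.obj (Y j)) x ≫ e.inv ≫ π = 0 := by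
    intro x
    induction x using DirectSum.induction_on with
    | zero => exact ⟨∅, fun π _ => by rw [map_zero, zero_comp]⟩
    | of i a =>
      refine ⟨{i}, fun π h => ?_⟩
      have he : Sigma.ι (fun j => Q.obj (Y j)) i ≫ e.inv = Q.map (Sigma.ι Y i) := by
        simp [e, ι_comp_sigmaComparison]
      rw [CohDer.homSumToHomCoprod, DirectSum.toAddMonoid_of]
      show (a ≫ Sigma.ι (fun j => Q.obj (Y j)) i) ≫ e.inv ≫ π = 0
      rw [Category.assoc, reassoc_of% he, h i (Finset.mem_singleton_self i), comp_zero]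
    | add x y hx hy =>
      obtain ⟨s, hs⟩ := hx
      obtain ⟨t, ht⟩ := hy
      exact ⟨s ∪ t, fun π h => by
        rw [map_add, Preadditive.add_comp, hs π fun j hj => h j (Finset.mem_union_left _ hj),
          ht π fun j hj => h j (Finset.mem_union_right _ hj), add_zero]⟩
  obtain ⟨s, hs⟩ := key x
  exact ⟨s, fun π h => by
    have := hs π h
    rwa [hx, Category.assoc, Iso.hom_inv_id_assoc] at this⟩

/-- A compact object is killed by almost all members of a locally finite family of maps. -/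
theorem exists_comp_eq_zero (hK : CohDer.IsCompactObject K) {F : CochainComplex A ℤ}
    (k : K ⟶ DerivedCategory.Q.obj F) (G : ℕ → CochainComplex A ℤ) (p : ∀ n, F ⟶ G n)
    (b : ℤ → ℕ) (hG : ∀ i n, b i ≤ n → IsZero ((G n).X i)) :
    ∃ N, ∀ n, N ≤ n → k ≫ DerivedCategory.Q.map (p n) = 0 := by
  classical
  let Y : ULift.{v} ℕ → CochainComplex A ℤ := fun n => G n.down
  let t : ∀ i : ℤ, ℕ → (F.X i ⟶ (∐ Y).X i) := fun i n => (p n).f i ≫ (Sigma.ι Y ⟨n⟩).f i
  have ht : ∀ i m, b i ≤ m →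
      (∑ n ∈ Finset.range m, t i n) = ∑ n ∈ Finset.range (b i), t i n := fun i m hm =>
    (Finset.sum_subset (Finset.range_mono hm) fun n _ hn =>
      (congrArg (· ≫ (Sigma.ι Y ⟨n⟩).f i) ((hG i n (by simpa using hn)).eq_of_tgt ((p n).f i) 0)).trans
        zero_comp).symm
  let f : F ⟶ ∐ Y :=
    { f := fun i => ∑ n ∈ Finset.range (b i), t i n
      comm' := fun i j _ => by
        rw [← ht i (max (b i) (b j)) (le_max_left _ _), ← ht j (max (b i) (b j)) (le_max_right _ _),
          Preadditive.sum_comp, Preadditive.comp_sum]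
        refine Finset.sum_congr rfl fun n _ => ?_
        show ((p n).f i ≫ (Sigma.ι Y ⟨n⟩).f i) ≫ _ = _ ≫ (p n).f j ≫ (Sigma.ι Y ⟨n⟩).f j
        rw [Category.assoc, Hom.comm, Hom.comm_assoc] }
  obtain ⟨s, hs⟩ := exists_finset hK (k ≫ DerivedCategory.Q.map f)
  refine ⟨(s.sup fun n => n.down + 1), fun n hn => ?_⟩
  let π : ∐ Y ⟶ G n := Sigma.desc fun m => if h : m.down = n then eqToHom (congrArg G h) else 0
  have hπ : f ≫ π = p n := by
    ext i
    rw [comp_f]
    show (∑ m ∈ Finset.range (b i), t i m) ≫ π.f i = _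
    rw [← ht i (max (b i) (n + 1)) (le_max_left _ _), Preadditive.sum_comp,
      Finset.sum_eq_single n (fun m _ hm => ?_) (fun h => absurd (Finset.mem_range.2 (by omega)) h)]
    · simp [t, π, ← comp_f]
      exact congrArg (fun g : F ⟶ G n => g.f i) (Category.comp_id _)
    · simp [t, π, ← comp_f, hm]
  rw [← hπ, Functor.map_comp, ← Category.assoc]
  refine hs _ fun j hj => ?_
  have hjn : j.down ≠ n := by
    have := Finset.le_sup (f := fun n : ULift.{v} ℕ => n.down + 1) hj
    omega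
  rw [← Functor.map_comp, Sigma.ι_desc, dif_neg hjn, Functor.map_zero]

omit [HasCoproducts.{v} A] [HasCoproducts.{v} (DerivedCategory A)] in
/-- A map killed by the projection of a short exact sequence gives a retract of the kernel. -/
theorem retract_of_ses {S : ShortComplex (CochainComplex A ℤ)} (hS : S.ShortExact)
    (r : Retract K (DerivedCategory.Q.obj S.X₂)) (h : r.i ≫ DerivedCategory.Q.map S.g = 0) :
    Nonempty (Retract K (DerivedCategory.Q.obj S.X₁)) := by
  obtain ⟨s, hs⟩ := Triangle.coyoneda_exact₂ _ (DerivedCategory.triangleOfSES_distinguished hS) r.i h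
  exact ⟨⟨s, DerivedCategory.Q.map S.f ≫ r.r, by
    rw [← Category.assoc]; exact (congrArg (· ≫ r.r) hs.symm).trans r.retract⟩⟩

/-- A compact object has bounded above cohomology. -/
theorem exists_exactAt (hK : CohDer.IsCompactObject K) {F : CochainComplex A ℤ}
    (e : DerivedCategory.Q.obj F ≅ K) : ∃ N : ℤ, ∀ i, N ≤ i → F.ExactAt i := by
  obtain ⟨N, hN⟩ := exists_comp_eq_zero hK e.inv (fun n => F.truncGE (n : ℤ))
    (fun n => F.πTruncGE (n : ℤ)) (fun i => (i + 1).toNat)
    (fun i n hn => CochainComplex.isZero_of_isStrictlyGE _ (n : ℤ) i (by omega))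
  refine ⟨(N : ℤ), fun i hi => ?_⟩
  have h := hN N le_rfl
  have h' : DerivedCategory.Q.map (F.πTruncGE (N : ℤ)) = 0 := (cancel_epi e.inv).1 (h.trans comp_zero.symm)
  haveI : QuasiIsoAt (F.πTruncGE (N : ℤ)) i := CochainComplex.quasiIsoAt_πTruncGE F N i hi
  have h0 : homologyMap (F.πTruncGE (N : ℤ)) i = 0 := by
    refine (cancel_epi ((DerivedCategory.homologyFunctorFactors A i).hom.app F)).1 ?_
    rw [comp_zero, ← HomologicalComplex.homologyFunctor_map]
    refine ((DerivedCategory.homologyFunctorFactors A i).hom.naturality _).symm.trans ?_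
    rw [Functor.comp_map, h', Functor.map_zero, zero_comp]
  rw [exactAt_iff_isZero_homology]
  exact @IsZero.of_mono_eq_zero _ _ _ _ _ (homologyMap (F.πTruncGE (N : ℤ)) i) inferInstance h0

/-- The finite sums of members of a class. -/
def Fins (S : Set A) : ObjectProperty A := fun M =>
  ∃ (n : ℕ) (E : Fin n → A), (∀ j, E j ∈ S) ∧ ∃ _ : HasBiproduct E, Nonempty (M ≅ ⨁ E)

/-- The sums of members of a class. -/
def Sums (S : Set A) : ObjectProperty A := fun M =>
  ∃ (ι : Type v) (E : ι → A), (∀ j, E j ∈ S) ∧ Nonempty (M ≅ ∐ E)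

instance (S : Set A) : (Sums S).IsClosedUnderIsomorphisms where
  of_iso e := fun ⟨ι, E, hE, ⟨e'⟩⟩ => ⟨ι, E, hE, ⟨e.symm ≪≫ e'⟩⟩

omit [HasDerivedCategory.{v} A] [HasCoproducts.{v} (DerivedCategory A)] in
theorem sums_of_isZero (S : Set A) {M : A} (hM : IsZero M) : Sums S M :=
  ⟨PEmpty, PEmpty.elim, fun j => j.elim, ⟨hM.iso (IsZero.of_iso (isZero_zero A) (by
    exact { hom := 0, inv := 0, hom_inv_id := Sigma.hom_ext _ _ fun j => j.elim }))⟩⟩

omit [HasDerivedCategory.{v} A] [HasCoproducts.{v} (DerivedCategory A)] in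
theorem sums_prod (S : Set A) (M N : A) (hM : Sums S M) (hN : Sums S N) : Sums S (M ⨯ N) := by
  obtain ⟨ι, E, hE, ⟨e⟩⟩ := hM
  obtain ⟨κ, F, hF, ⟨f⟩⟩ := hN
  refine ⟨ι ⊕ κ, Sum.elim E F, fun j => by cases j <;> simp [hE, hF], ⟨(biprod.isoProd M N).symm ≪≫
    biprod.mapIso e f ≪≫
    { hom := biprod.desc (Sigma.desc fun j => Sigma.ι (Sum.elim E F) (.inl j))
        (Sigma.desc fun j => Sigma.ι (Sum.elim E F) (.inr j))
      inv := Sigma.desc fun s => Sum.rec (motive := fun s => Sum.elim E F s ⟶ (∐ E) ⊞ (∐ F))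
        (fun j => Sigma.ι E j ≫ biprod.inl) (fun j => Sigma.ι F j ≫ biprod.inr) s
      hom_inv_id := by
        refine biprod.hom_ext' _ _ (Sigma.hom_ext _ _ fun j => ?_) (Sigma.hom_ext _ _ fun j => ?_) <;> simp
      inv_hom_id := Sigma.hom_ext _ _ fun s => by cases s <;> simp }⟩⟩

instance (S : Set A) : (Sums S).ContainsZero where
  exists_zero := ⟨_, isZero_zero A, sums_of_isZero S (isZero_zero A)⟩

variable {S : Set A} (h2 : ∀ E ∈ S, ∀ ι : Type v, PreservesColimitsOfShape (Discrete ι) (preadditiveCoyoneda.obj (op E)))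

include h2 in
/-- Making one more term a finite sum. -/
theorem exists_shrink (hK : CohDer.IsCompactObject K) (B : CochainComplex A ℤ)
    (r : Retract K (DerivedCategory.Q.obj B)) (m : ℤ) (hB : ∀ i, Sums S (B.X i))
    (hm : Fins S (B.X (m - 1))) :
    ∃ B' : CochainComplex A ℤ, Nonempty (Retract K (DerivedCategory.Q.obj B')) ∧ Fins S (B'.X m) ∧
      ∀ i, i ≠ m → Nonempty (B'.X i ≅ B.X i) := by
  classical
  obtain ⟨J, E, hE, ⟨e⟩⟩ := hB m
  obtain ⟨n, E', hE', _, ⟨e'⟩⟩ := hm
  obtain ⟨T₀, hT₀⟩ := exists_finset_of_biproduct (fun k => h2 _ (hE' k) J)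
    (e'.inv ≫ B.d (m - 1) m ≫ e.hom)
  let W := ∐ E
  let π : Finset J → (W ⟶ W) := fun T => Sigma.desc fun j => if j ∈ T then 0 else Sigma.ι E j
  have hπ : ∀ T, ∀ j ∈ T, Sigma.ι E j ≫ π T = 0 := fun T j hj => by simp [π, hj]
  have hd : B.d (m - 1) m ≫ e.hom ≫ π T₀ = 0 := by
    rw [← cancel_epi e'.inv, comp_zero]
    simpa using hT₀ (π T₀) (hπ T₀)
  let σ := HomologicalComplex.single A (ComplexShape.up ℤ) m
  let q₀ : B ⟶ σ.obj W := HomologicalComplex.mkHomToSingle (e.hom ≫ π T₀) fun i hi => by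
    obtain rfl : i = m - 1 := by simp at hi; omega
    exact hd
  let c := PreservesCoproduct.iso σ E
  obtain ⟨T₁, hT₁⟩ := exists_finset hK (r.i ≫ DerivedCategory.Q.map (q₀ ≫ c.hom))
  let T := T₀ ∪ T₁
  have h01 : π T₀ ≫ π T = π T := Sigma.hom_ext _ _ fun j => by
    by_cases hj : j ∈ T₀
    · simp [π, T, hj]
    · simp [π, hj]
  let q : B ⟶ σ.obj W := q₀ ≫ σ.map (π T)
  have hq : r.i ≫ DerivedCategory.Q.map q = 0 := by
    have hq' : q = (q₀ ≫ c.hom) ≫ c.inv ≫ σ.map (π T) := by simp [q]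
    rw [hq', Functor.map_comp, ← Category.assoc]
    refine hT₁ _ fun j hj => ?_
    rw [← Functor.map_comp]
    have : Sigma.ι (fun j => σ.obj (E j)) j ≫ c.inv = σ.map (Sigma.ι E j) := by
      simp [c, ι_comp_sigmaComparison]
    rw [reassoc_of% this, ← Functor.map_comp, hπ T j (Finset.mem_union_right _ hj), Functor.map_zero,
      Functor.map_zero]
  let q' : B.X m ⟶ W := e.hom ≫ π T
  have hqf : q.f m = q' ≫ (singleObjXSelf (ComplexShape.up ℤ) m W).inv := by
    simp [q, q₀, q', σ, single_map_f_self, reassoc_of% h01]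
  let ι' := kernel.ι q
  let Q' := ShortComplex.mk ι' (cokernel.π ι') (cokernel.condition ι')
  have hQ : Q'.ShortExact := { exact := ShortComplex.exact_of_g_is_cokernel _ (cokernelIsCokernel _) }
  let EV := HomologicalComplex.eval A (ComplexShape.up ℤ)
  have hev : ∀ i, (Q'.map (EV i)).ShortExact := fun i => hQ.map_of_exact (EV i)
  have hne : ∀ i, i ≠ m → IsIso (ι'.f i) := fun i hi => by
    let k := PreservesKernel.iso (EV i) q
    have hz : IsZero ((EV i).obj (σ.obj W)) := isZero_single_obj_X (ComplexShape.up ℤ) m W i hi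
    haveI : Epi (kernel.ι ((EV i).map q)) :=
      SplitEpi.epi ⟨kernel.lift _ (𝟙 _) (hz.eq_of_tgt _ _), kernel.lift_ι _ _ _⟩
    haveI : IsIso (kernel.ι ((EV i).map q)) := isIso_of_mono_of_epi _
    have : ι'.f i = k.hom ≫ kernel.ι ((EV i).map q) := by
      simp [ι', k, EV, kernelComparison]
    rw [this]; infer_instance
  have hcok : ∀ i, i ≠ m → IsZero ((cokernel ι').X i) := fun i hi => by
    haveI := hne i hi
    exact (hev i).isIso_f_iff.1 (inferInstanceAs (IsIso (ι'.f i)))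
  let ρ : σ.obj W ⟶ cokernel ι' := HomologicalComplex.mkHomFromSingle (e.inv ≫ (cokernel.π ι').f m)
    fun j hj => (hcok j (by simp at hj; omega)).eq_of_tgt _ _
  let nT := T.card
  let a : Fin nT → J := fun k => (T.equivFin.symm k).1
  haveI : HasBiproduct (fun k => E (a k)) := HasBiproduct.of_hasCoproduct _
  let μ : (⨁ fun k => E (a k)) ⟶ W := biproduct.desc fun k => Sigma.ι E (a k)
  let ν : W ⟶ ⨁ fun k => E (a k) := Sigma.desc fun j => if h : j ∈ T then
    eqToHom (congrArg E (congrArg Subtype.val (T.equivFin.symm_apply_apply ⟨j, h⟩)).symm) ≫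
      biproduct.ι (fun k => E (a k)) (T.equivFin ⟨j, h⟩) else 0
  have hμν : ν ≫ μ + π T = 𝟙 W := Sigma.hom_ext _ _ fun j => by
    by_cases hj : j ∈ T
    · simp [ν, μ, π, hj, a]
      first | exact (Category.comp_id _).symm | skip
    · simp [ν, π, hj]
      first | exact (Category.comp_id _).symm | skip
  have hμπ : μ ≫ π T = 0 := biproduct.hom_ext' _ _ fun k => by
    simp [μ, π, a]
  have hνμ : μ ≫ ν = 𝟙 _ := biproduct.hom_ext' _ _ fun k => by
    simp [μ, ν, a]
    exact biproduct.eqToHom_comp_ι (fun k => E (a k)) (T.equivFin.apply_symm_apply k).symm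
  have hKm : IsLimit (KernelFork.ofι (μ ≫ e.inv) (f := q') (by simp [q', hμπ])) :=
    KernelFork.IsLimit.ofι _ _ (fun x _ => x ≫ e.hom ≫ ν) (fun x hx => by
      have : x ≫ e.hom ≫ ν ≫ μ = x ≫ e.hom := by
        rw [← sub_eq_iff_eq_add.2 hμν.symm, Preadditive.comp_sub, Preadditive.comp_sub, hx, sub_zero,
          Category.comp_id]
      simp [reassoc_of% this])
      (fun x _ l hl => by rw [← hl]; simp [hνμ])
  let k := PreservesKernel.iso (EV m) q
  haveI hmono : Mono (singleObjXSelf (ComplexShape.up ℤ) m W).inv := inferInstance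
  let eK : (kernel q).X m ≅ ⨁ fun k => E (a k) := k ≪≫
    kernelIsoOfEq (show (EV m).map q = q' ≫ (singleObjXSelf (ComplexShape.up ℤ) m W).inv from hqf) ≪≫
    kernelCompMono q' _ ≪≫ (kernelIsKernel q').conePointUniqueUpToIso hKm
  have hπker : e.hom ≫ ν ≫ μ ≫ e.inv ≫ (cokernel.π ι').f m = 0 := by
    have hl : (μ ≫ e.inv) ≫ q.f m = 0 := by simp [hqf, q', reassoc_of% hμπ]
    obtain ⟨z, hz⟩ : ∃ z : _ ⟶ (kernel q).X m, z ≫ ι'.f m = μ ≫ e.inv :=
      ⟨kernel.lift ((EV m).map q) _ hl ≫ k.inv, by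
        have hk : k.hom ≫ kernel.ι ((EV m).map q) = (EV m).map (kernel.ι q) := by simp [k]
        show _ ≫ (EV m).map (kernel.ι q) = _
        rw [Category.assoc, ← hk, Iso.inv_hom_id_assoc, kernel.lift_ι]⟩
    rw [← Category.assoc μ, ← hz, Category.assoc]
    have : ι'.f m ≫ (cokernel.π ι').f m = 0 := (Q'.map (EV m)).zero
    simp [this]
  have hρ : q ≫ ρ = cokernel.π ι' := by
    refine HomologicalComplex.Hom.ext (funext fun i => ?_)
    by_cases hi : i = m
    · subst hi
      rw [comp_f, hqf]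
      simp only [ρ, mkHomFromSingle_f, Category.assoc, Iso.inv_hom_id_assoc, q']
      rw [eq_sub_of_add_eq' hμν]
      simp only [Preadditive.sub_comp, Preadditive.comp_sub, Category.id_comp, Category.assoc,
        Iso.hom_inv_id_assoc]
      rw [hπker, sub_zero]
      exact (congrArg (e.hom ≫ ·) (Category.id_comp _)).trans (Iso.hom_inv_id_assoc _ _)
    · exact (hcok i hi).eq_of_tgt _ _
  obtain ⟨r'⟩ := retract_of_ses hQ r (by
    show r.i ≫ DerivedCategory.Q.map (cokernel.π ι') = 0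
    rw [← hρ, Functor.map_comp, reassoc_of% hq, zero_comp])
  exact ⟨kernel q, ⟨r'⟩, ⟨nT, _, fun k => hE _, inferInstance, ⟨eK⟩⟩,
    fun i hi => ⟨@asIso _ _ _ _ (ι'.f i) (hne i hi)⟩⟩

variable (h1 : ∀ M : A, ∃ (ι : Type v) (E : ι → A) (π : ∐ E ⟶ M), (∀ i, E i ∈ S) ∧ Epi π)

include h1 in
/-- A compact object is a retract of a bounded complex of sums. -/
theorem exists_bounded (hK : CohDer.IsCompactObject K) :
    ∃ (L : CochainComplex A ℤ) (a b : ℤ), (∀ i, i < a ∨ b < i → IsZero (L.X i)) ∧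
      (∀ i, Sums S (L.X i)) ∧ Nonempty (Retract K (DerivedCategory.Q.obj L)) := by
  let F := DerivedCategory.Q.objPreimage K
  let e : DerivedCategory.Q.obj F ≅ K := DerivedCategory.Q.objObjPreimageIso K
  obtain ⟨N, hN⟩ := exists_exactAt hK e
  have hgen : ∀ M : A, PCoh.IsOfFiniteType (Sums S) M := fun M => by
    obtain ⟨ι, E, π, hE, hπ⟩ := h1 M
    exact ⟨∐ E, π, ⟨ι, E, hE, ⟨Iso.refl _⟩⟩, hπ⟩
  obtain ⟨L, u, hL, hLS, hu⟩ := H6RP.exists_colimit (Sums S) (F := F) (fun E u m hE hu => by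
    obtain ⟨E', v, u', h, hm, hi, -, hx, hP⟩ := PCohLib.exists_step (sums_prod S)
      (fun G H w _ _ => by
        obtain ⟨G', p, hG', hp⟩ := hgen G
        exact ⟨G', p, hG', epi_comp _ _⟩) m u hu (hgen _)
    obtain ⟨a, b, hab⟩ := hE.1
    refine ⟨E', v, u', h, hm, hi, ⟨⟨min a m, max b m, fun i h' => ?_⟩, fun i => hP i (hE.2 i)⟩, hx⟩
    haveI := hi i (by omega)
    exact (hab i (by omega)).of_iso (asIso (v.f i)).symm) N hN (fun M hM => sums_of_isZero S hM)
  haveI := hu
  let r : Retract K (DerivedCategory.Q.obj L) :=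
    ⟨e.inv ≫ inv (DerivedCategory.Q.map u), DerivedCategory.Q.map u ≫ e.hom, by simp⟩
  let T : ℕ → ShortComplex (CochainComplex A ℤ) := fun n => KFlatLib.sigmaSES L (-(n : ℤ))
  obtain ⟨n, hn⟩ := exists_comp_eq_zero hK r.i (fun n => (T n).X₃) (fun n => (T n).g)
    (fun i => (-i).toNat) (fun i n h => by
      haveI := KFlatLib.isStrictlyLE_sigmaSES_X₃ L (-(n : ℤ))
      exact (T n).X₃.isZero_of_isStrictlyLE (-(n : ℤ) - 1) i (by omega))
  have hlt : ∀ i, i < -(n : ℤ) → IsZero ((T n).X₁.X i) := fun i hi =>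
    KFlatLib.isZero_stupidTrunc_of_lt L _ i hi
  have hge : ∀ i, -(n : ℤ) ≤ i → Nonempty ((T n).X₁.X i ≅ L.X i) := fun i hi =>
    ⟨@asIso _ _ _ _ _ (KFlatLib.isIso_sigmaGEι_f L _ i hi)⟩
  refine ⟨(T n).X₁, -(n : ℤ), max (N : ℤ) (-(n : ℤ)), fun i hi => ?_, fun i => ?_,
    retract_of_ses (KFlatLib.sigmaSES_shortExact L _) r (hn n le_rfl)⟩
  · rcases hi with hi | hi
    · exact hlt i hi
    · exact (hL i (by omega)).of_iso (hge i (by omega)).some
  · rcases lt_or_ge i (-(n : ℤ)) with hi | hi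
    · exact sums_of_isZero S (hlt i hi)
    · exact (Sums S).prop_of_iso (hge i hi).some.symm (hLS i)

include h1 h2 in
/-- A compact object is a retract of a bounded complex of finite sums. -/
theorem exists_bounded_fins (hK : CohDer.IsCompactObject K) :
    ∃ (L : CochainComplex A ℤ) (a b : ℤ), (∀ i, i < a ∨ b < i → IsZero (L.X i)) ∧
      (∀ i, Fins S (L.X i)) ∧ Nonempty (Retract K (DerivedCategory.Q.obj L)) := by
  obtain ⟨L₀, a, b, hab, hS₀, hr₀⟩ := exists_bounded h1 hK
  have hz : ∀ {M : A}, IsZero M → Fins S M := fun {M} hM => by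
    haveI : HasBiproduct (Fin.elim0 : Fin 0 → A) := HasBiproduct.of_hasCoproduct _
    exact ⟨0, Fin.elim0, fun j => j.elim0, inferInstance, ⟨hM.iso (by
      rw [IsZero.iff_id_eq_zero]; exact biproduct.hom_ext' _ _ fun j => j.elim0)⟩⟩
  have key : ∀ k : ℕ, ∃ L : CochainComplex A ℤ, Nonempty (Retract K (DerivedCategory.Q.obj L)) ∧
      (∀ i, i < a ∨ b < i → IsZero (L.X i)) ∧ (∀ i, Sums S (L.X i)) ∧
      ∀ i, i < a + (k : ℤ) → Fins S (L.X i) := by
    intro k
    induction k with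
    | zero => exact ⟨L₀, hr₀, hab, hS₀, fun i hi => hz (hab i (Or.inl (by simpa using hi)))⟩
    | succ k ih =>
      obtain ⟨L, ⟨r⟩, hL, hLS, hLF⟩ := ih
      by_cases hk : b < a + (k : ℤ)
      · exact ⟨L, ⟨r⟩, hL, hLS, fun i hi => if h : i < a + (k : ℤ) then hLF i h else
          hz (hL i (Or.inr (by omega)))⟩
      obtain ⟨L', hr', hm, hne⟩ := exists_shrink h2 hK L r (a + k) hLS (hLF _ (by omega))
      refine ⟨L', hr', fun i hi => (hL i hi).of_iso (hne i (by omega)).some, fun i => ?_, fun i hi => ?_⟩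
      · by_cases hi : i = a + k
        · subst hi
          obtain ⟨n, E, hE, _, ⟨eM⟩⟩ := hm
          exact ⟨ULift (Fin n), fun j => E j.down, fun j => hE _, ⟨eM ≪≫
            { hom := biproduct.desc fun j => Sigma.ι (fun j : ULift (Fin n) => E j.down) ⟨j⟩
              inv := Sigma.desc fun j => biproduct.ι E j.down
              inv_hom_id := Sigma.hom_ext _ _ fun j => by simp }⟩⟩
        · exact (Sums S).prop_of_iso (hne i hi).some.symm (hLS i)
      · by_cases h : i = a + k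
        · exact h ▸ hm
        · obtain ⟨n, E, hE, hB, ⟨e⟩⟩ := hLF i (by push_cast at hi; omega)
          exact ⟨n, E, hE, hB, ⟨(hne i h).some ≪≫ e⟩⟩
  obtain ⟨L, hr, hL, -, hLF⟩ := key (b + 1 - a).toNat
  exact ⟨L, a, b, hL, fun i => if h : i < a + ((b + 1 - a).toNat : ℤ) then hLF i h else
    hz (hL i (Or.inr (by omega))), hr⟩

end Derived

end Groth.Agent.H6CG
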