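import Groth.Agent.H6RP.Gen

/-!
# Termwise surjective left resolutions
-/

set_option autoImplicit false
set_option linter.style.haveILetI false
set_option linter.unusedSectionVars false
set_option backward.isDefEq.respectTransparency false
set_option backward.isDefEq.respectTransparency.types false

universe v u

open CategoryTheory CategoryTheory.Limits HomologicalComplex CochainComplex.HomComplex

noncomputable section

namespace Groth.Agent.H6CG

open Groth.Agent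

variable {A : Type u} [Category.{v} A] [Abelian A] (P : ObjectProperty A) [P.IsClosedUnderIsomorphisms]
  (hP0 : ∃ Z : A, IsZero Z ∧ P Z) (hPsum : ∀ X Y : A, P X → P Y → P (X ⊞ Y))
  (hP : ∀ X : A, ∃ (Y : A) (π : Y ⟶ X), P Y ∧ Epi π)

include hP0 hPsum hP

/-- A bounded above complex has a termwise surjective resolution by members of the class. -/
theorem exists_epi_resolution (C : CochainComplex A ℤ) (n : ℤ) (hC : ∀ i, n ≤ i → IsZero (C.X i)) :
    ∃ (T : CochainComplex A ℤ) (w : T ⟶ C), (∀ i, n < i → IsZero (T.X i)) ∧ (∀ i, P (T.X i)) ∧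
      QuasiIso w ∧ ∀ i, Epi (w.f i) := by
  classical
  haveI : P.ContainsZero := ⟨hP0.choose, hP0.choose_spec.1, hP0.choose_spec.2⟩
  have hPz : ∀ M : A, IsZero M → P M := fun M h => P.prop_of_isZero h
  have hsum : ∀ X Y : A, P X → P Y → P (X ⨯ Y) := fun X Y hX hY =>
    P.prop_of_iso (biprod.isoProd X Y) (hPsum X Y hX hY)
  have hgen : ∀ M : A, PCoh.IsOfFiniteType P M := fun M => by
    obtain ⟨Y, π, hY, hπ⟩ := hP M
    exact ⟨Y, π, hY, hπ⟩
  letI : HasDerivedCategory A := HasDerivedCategory.standard A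
  obtain ⟨E, u, hE, hEP, hu⟩ := H6RP.exists_colimit P (F := C) (fun E u m hE hu => by
    obtain ⟨E', v, u', h, hm, hi, -, hx, hEP⟩ := PCohLib.exists_step hsum
      (fun G H w _ _ => by
        obtain ⟨G', p, hG', hp⟩ := hgen G
        exact ⟨G', p, hG', epi_comp _ _⟩) m u hu (hgen _)
    obtain ⟨a, b, hab⟩ := hE.1
    refine ⟨E', v, u', h, hm, hi, ⟨⟨min a m, max b m, fun i h' => ?_⟩, fun i => hEP i (hE.2 i)⟩, hx⟩
    haveI := hi i (by omega)
    exact (hab i (by omega)).of_iso (asIso (v.f i)).symm) n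
    (fun i hi => PCohLib.exactAt_of_isZero (hC i hi)) hPz
  have hcover : ∀ i : ℤ, ∃ (Y : A) (π : Y ⟶ C.X (i - 1)), P Y ∧ Epi π ∧
      (n ≤ i - 1 → IsZero Y) := fun i => by
    by_cases h : n ≤ i - 1
    · exact ⟨hP0.choose, 0, hP0.choose_spec.2, ⟨fun g g' _ => (hC _ h).eq_of_src g g'⟩,
        fun _ => hP0.choose_spec.1⟩
    · obtain ⟨Y, π, hY, hπ⟩ := hP (C.X (i - 1))
      exact ⟨Y, π, hY, hπ, fun h' => absurd h' h⟩
  choose Y π hY hπ hY0 using hcover
  let Z : CochainComplex A ℤ := CochainComplex.of Y (fun _ => 0) (fun _ => by simp)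
  let α : Cochain Z C (-1) := Cochain.mk fun p q hpq =>
    π p ≫ eqToHom (congrArg C.X (show p - 1 = q by omega))
  let z : Cocycle Z C 0 := Cocycle.mk (δ (-1) 0 α) 1 (by simp) (δ_δ _ _ _ α)
  let β : Z ⟶ C := Cocycle.homOf z
  have hβ : δ (-1) 0 α = Cochain.ofHom (𝟙 Z ≫ β) := by
    rw [Category.id_comp]
    exact (Cocycle.cochain_ofHom_homOf_eq_coe z).symm
  let D := CochainComplex.mappingCone (𝟙 Z)
  let dd : D ⟶ C := CochainComplex.mappingCone.desc (𝟙 Z) α β hβ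
  have hDP : ∀ i, P (D.X i) := fun i => PCohLib.prop_cone hsum (𝟙 Z) i (hY _) (hY _)
  have hD0 : ∀ i, n + 1 ≤ i → IsZero (D.X i) := fun i hi =>
    (CochainComplex.mappingCone.isZero_X_iff (𝟙 Z) i).2 ⟨hY0 _ (by omega), hY0 _ (by omega)⟩
  have hdd : ∀ i, Epi (dd.f i) := fun i => by
    haveI : Epi ((CochainComplex.mappingCone.inl (𝟙 Z)).v (i + 1) i (by omega) ≫ dd.f i) := by
      rw [CochainComplex.mappingCone.inl_v_desc_f]
      haveI := hπ (i + 1)
      show Epi (π (i + 1) ≫ eqToHom _)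
      infer_instance
    exact epi_of_epi ((CochainComplex.mappingCone.inl (𝟙 Z)).v (i + 1) i _) _
  have hDex : ∀ i, D.ExactAt i := fun i =>
    (PCohLib.quasiIso_iff_exactGE (𝟙 Z)).1 inferInstance i i le_rfl
  let W := E ⊞ D
  let w : W ⟶ C := biprod.desc u dd
  have hw : ∀ i, Epi (w.f i) := fun i => by
    haveI : Epi ((biprod.inr : D ⟶ W).f i ≫ w.f i) := by
      rw [← comp_f, biprod.inr_desc]; exact hdd i
    exact epi_of_epi ((biprod.inr : D ⟶ W).f i) _
  have hin : QuasiIso (biprod.inl : E ⟶ W) := by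
    rw [quasiIso_iff]
    intro i
    rw [quasiIsoAt_iff_isIso_homologyMap]
    refine ⟨⟨homologyMap (biprod.fst : W ⟶ E) i, by rw [← homologyMap_comp, biprod.inl_fst, homologyMap_id], ?_⟩⟩
    have h0 : homologyMap (biprod.inr : D ⟶ W) i = 0 :=
      ((exactAt_iff_isZero_homology _ _).1 (hDex i)).eq_of_src _ _
    rw [← homologyMap_comp, ← homologyMap_id, ← biprod.total, homologyMap_add,
      homologyMap_comp (biprod.snd : W ⟶ D) biprod.inr, h0, comp_zero, add_zero]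
  have hWq : QuasiIso w := by
    haveI := hin
    haveI : QuasiIso ((biprod.inl : E ⟶ W) ≫ w) := by rw [biprod.inl_desc]; exact hu
    exact quasiIso_of_comp_left (biprod.inl : E ⟶ W) w
  have hWX : ∀ i, Nonempty (W.X i ≅ E.X i ⊞ D.X i) := fun i =>
    ⟨(HomologicalComplex.eval A (ComplexShape.up ℤ) i).mapBiprod E D⟩
  refine ⟨W, w, fun i hi => ?_, fun i => P.prop_of_iso (hWX i).some.symm (hPsum _ _ (hEP i) (hDP i)), hWq, hw⟩
  obtain ⟨e⟩ := hWX i
  refine IsZero.of_iso ?_ e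
  rw [IsZero.iff_id_eq_zero]
  exact biprod.hom_ext _ _ ((hE i (by omega)).eq_of_tgt _ _) ((hD0 i (by omega)).eq_of_tgt _ _)

/-- Extending a map to a termwise surjective quasi-isomorphism. -/
theorem exists_extension {Q₀ L : CochainComplex A ℤ} (u : Q₀ ⟶ L) (b : ℤ)
    (hQ : ∀ i, b ≤ i → IsZero (Q₀.X i)) (hL : ∀ i, b ≤ i → IsZero (L.X i)) (hQP : ∀ i, P (Q₀.X i)) :
    ∃ (Q₁ : CochainComplex A ℤ) (v : Q₀ ⟶ Q₁) (p : Q₁ ⟶ L), v ≫ p = u ∧ QuasiIso p ∧ (∀ i, Epi (p.f i)) ∧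
      (∀ i, b < i → IsZero (Q₁.X i)) ∧ (∀ i, P (Q₁.X i)) ∧
      ∀ i, (∃ r : Q₁.X i ⟶ Q₀.X i, v.f i ≫ r = 𝟙 _) ∧ P (cokernel (v.f i)) := by
  obtain ⟨T, j, hT, hTP, hj, hje⟩ := exists_epi_resolution P hP0 hPsum hP (CochainComplex.mappingCone u) b
    fun i hi => (CochainComplex.mappingCone.isZero_X_iff u i).2 ⟨hQ _ (by omega), hL i hi⟩
  refine ⟨PCohLib.Ext.cx u j, PCohLib.Ext.v u j, PCohLib.Ext.map u j, PCohLib.Ext.v_map u j, ?_,
    fun i => ?_, fun i hi => ?_, fun i => hPsum _ _ (hQP i) (hTP i), fun i => ⟨⟨biprod.fst, biprod.inl_fst⟩, ?_⟩⟩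
  · rw [PCohLib.quasiIso_iff_exactGE]
    intro m
    rw [PCohLib.Ext.exactGE_map_iff]
    exact (PCohLib.quasiIso_iff_exactGE j).1 hj m
  · haveI := hje i
    haveI : Epi ((CochainComplex.mappingCone.snd u).v i i (add_zero i)) :=
      SplitEpi.epi ⟨(CochainComplex.mappingCone.inr u).f i, by simp⟩
    haveI : Epi (PCohLib.Ext.b u j i) := epi_comp _ _
    show Epi (biprod.desc (u.f i) (PCohLib.Ext.b u j i))
    haveI : Epi ((biprod.inr : _ ⟶ Q₀.X i ⊞ T.X i) ≫ biprod.desc (u.f i) (PCohLib.Ext.b u j i)) := by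
      rw [biprod.inr_desc]; infer_instance
    exact epi_of_epi (biprod.inr : _ ⟶ Q₀.X i ⊞ T.X i) _
  · show IsZero (Q₀.X i ⊞ T.X i)
    rw [IsZero.iff_id_eq_zero]
    exact biprod.hom_ext _ _ ((hQ i (by omega)).eq_of_tgt _ _) ((hT i hi).eq_of_tgt _ _)
  · exact P.prop_of_iso (PCohLib.Ext.cokerIso u j i).symm (hTP i)

end Groth.Agent.H6CG
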