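import Groth.Agent.H6RP.Gen
import Groth.Agent.DQGen.Basic
import Groth.Agent.KFlatLib.Scheme.TildeD
import Groth.Agent.KFlatLib.Scheme.TildeAmp

/-!
# Pseudo-coherent objects on quasi-compact opens of affine schemes
-/

set_option autoImplicit false
set_option linter.style.haveILetI false
set_option linter.unusedSectionVars false
set_option backward.isDefEq.respectTransparency false
set_option backward.isDefEq.respectTransparency.types false
set_option maxHeartbeats 400000

universe u v w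

open CategoryTheory CategoryTheory.Limits AlgebraicGeometry TopologicalSpace Opposite HomologicalComplex
open CategoryTheory.Pretriangulated

noncomputable section

namespace Groth.Agent.H6CG

open Groth.Agent

attribute [local instance] HasDerivedCategory.standard

section Colimit

variable {C : Type u} [Category.{v} C] [Abelian C] (P : ObjectProperty C) [P.IsClosedUnderIsomorphisms]

/-- Iterating steps which change one degree at a time, for any invariant. -/
theorem exists_stages {F : CochainComplex C ℤ}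
    (G : ∀ (E : CochainComplex C ℤ), (E ⟶ F) → ℤ → Prop) (n : ℤ)
    (h0 : ∀ Z : CochainComplex C ℤ, (∀ i, IsZero (Z.X i)) → ∀ u : Z ⟶ F, G Z u n)
    (hP0 : ∀ M : C, IsZero M → P M)
    (next : ∀ (E : CochainComplex C ℤ) (u : E ⟶ F) (m : ℤ), H6RP.Bdd P E → G E u (m + 1) →
      ∃ (E' : CochainComplex C ℤ) (v : E ⟶ E') (u' : E' ⟶ F), v ≫ u' = u ∧
        (∀ i, i ≠ m → IsIso (v.f i)) ∧ H6RP.Bdd P E' ∧ G E' u' m) :
    ∃ (E : CochainComplex C ℤ) (u : E ⟶ F), (∀ i, n ≤ i → IsZero (E.X i)) ∧ (∀ i, P (E.X i)) ∧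
      ∀ i : ℤ, ∃ (E₁ : CochainComplex C ℤ) (u₁ : E₁ ⟶ F) (v : E₁ ⟶ E) (m : ℤ), m < i ∧ G E₁ u₁ m ∧
        v ≫ u = u₁ ∧ ∀ k, i - 1 ≤ k → IsIso (v.f k) := by
  let Z : CochainComplex C ℤ := HomologicalComplex.zero
  have hZ : ∀ i, IsZero (Z.X i) := fun i =>
    (HomologicalComplex.eval C (ComplexShape.up ℤ) i).map_isZero HomologicalComplex.isZero_zero
  let Stage : ℕ → Type (max u v) := fun k => {p : Σ E : CochainComplex C ℤ, (E ⟶ F) //
    H6RP.Bdd P p.1 ∧ G p.1 p.2 (n - (k : ℤ))}
  have key : ∀ (k : ℕ) (s : Stage k), ∃ (t : Stage (k + 1)) (v : s.1.1 ⟶ t.1.1),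
      v ≫ t.1.2 = s.1.2 ∧ ∀ i, i ≠ n - ((k + 1 : ℕ) : ℤ) → IsIso (v.f i) := by
    intro k s
    obtain ⟨E', v, u', h, hi, hb, hx⟩ := next s.1.1 s.1.2 (n - ((k + 1 : ℕ) : ℤ)) s.2.1
      (by rw [show n - ((k + 1 : ℕ) : ℤ) + 1 = n - (k : ℤ) by omega]; exact s.2.2)
    exact ⟨⟨⟨E', u'⟩, hb, hx⟩, v, h, hi⟩
  choose nxt vv hv₁ hv₃ using key
  let st : (k : ℕ) → Stage k := fun k => Nat.rec (motive := Stage)
    ⟨⟨Z, 0⟩, ⟨⟨0, 0, fun i _ => hZ i⟩, fun i => hP0 _ (hZ i)⟩, by simpa using h0 Z hZ 0⟩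
    (fun k s => nxt k s) k
  let X : ℕ → CochainComplex C ℤ := fun k => (st k).1.1
  let step : ∀ k, X k ⟶ X (k + 1) := fun k => vv k (st k)
  have hu : ∀ k, step k ≫ (st (k + 1)).1.2 = (st k).1.2 := fun k => hv₁ k (st k)
  have hiso : ∀ k i, i ≠ n - ((k + 1 : ℕ) : ℤ) → IsIso ((step k).f i) := fun k => hv₃ k (st k)
  let S : ℕ ⥤ CochainComplex C ℤ := Functor.ofSequence step
  have hmapi : ∀ i k l (h : k ≤ l), (n - i).toNat ≤ k → IsIso ((S.map (homOfLE h)).f i) := by
    intro i k l h hk
    induction l with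
    | zero =>
      obtain rfl : k = 0 := by omega
      rw [show homOfLE h = 𝟙 (0 : ℕ) from rfl, CategoryTheory.Functor.map_id, HomologicalComplex.id_f]
      infer_instance
    | succ l ih =>
      rcases Nat.eq_or_lt_of_le h with rfl | hlt
      · rw [show homOfLE h = 𝟙 (l + 1 : ℕ) from rfl, CategoryTheory.Functor.map_id, HomologicalComplex.id_f]
        infer_instance
      · haveI := ih (Nat.le_of_lt_succ hlt)
        haveI := hiso l i (by omega)
        rw [show homOfLE h = homOfLE (Nat.le_of_lt_succ hlt) ≫ homOfLE (Nat.le_add_right l 1) from rfl,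
          Functor.map_comp, HomologicalComplex.comp_f, Functor.ofSequence_map_homOfLE_succ]
        infer_instance
  have hev : ∀ i, (S ⋙ HomologicalComplex.eval C (ComplexShape.up ℤ) i).IsEventuallyConstantFrom (n - i).toNat := by
    intro i j f
    exact hmapi i _ j (leOfHom f) le_rfl
  haveI : ∀ i, HasColimit (S ⋙ HomologicalComplex.eval C (ComplexShape.up ℤ) i) := fun i => (hev i).hasColimit
  let c : Cocone S :=
    { pt := F
      ι := NatTrans.ofSequence (fun k => (st k).1.2) (fun k => by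
        rw [Functor.ofSequence_map_homOfLE_succ, Functor.const_obj_map]
        exact (hu k).trans (Category.comp_id _).symm) }
  have hι : ∀ i l, (n - i).toNat ≤ l → IsIso ((colimit.ι S l).f i) := fun i l hl =>
    (hev i).isIso_ι_of_isColimit' (isColimitOfPreserves (HomologicalComplex.eval C (ComplexShape.up ℤ) i)
      (colimit.isColimit S)) l (homOfLE hl)
  refine ⟨colimit S, colimit.desc S c, fun i hi => ?_, fun i => ?_, fun i => ?_⟩
  · haveI := hι i 0 (by omega)
    exact (hZ i).of_iso (asIso ((colimit.ι S 0).f i)).symm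
  · haveI := hι i (n - i).toNat le_rfl
    exact P.prop_of_iso (asIso ((colimit.ι S (n - i).toNat).f i)) ((st (n - i).toNat).2.1.2 i)
  · refine ⟨X ((n - i).toNat + 2), (st ((n - i).toNat + 2)).1.2, colimit.ι S ((n - i).toNat + 2),
      n - (((n - i).toNat + 2 : ℕ) : ℤ), ?_,
      (st ((n - i).toNat + 2)).2.2, colimit.ι_desc c ((n - i).toNat + 2),
      fun k hk => hι k ((n - i).toNat + 2) (by omega)⟩
    omega

end Colimit

section ExtStep

universe v' u'

variable {A : Type u} [Category.{v} A] [Abelian A] {B : Type u'} [Category.{v'} B] [Abelian B]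
  (Φ : A ⥤ B) [Φ.Additive] [PreservesFiniteLimits Φ] [PreservesFiniteColimits Φ]
  (P : ObjectProperty A) [P.IsClosedUnderIsomorphisms]

/-- Killing cohomology in one degree after an exact functor. -/
theorem ext_step (hprod : ∀ M N, P M → P N → P (M ⨯ N)) {E F : CochainComplex A ℤ} (n : ℤ) (u : E ⟶ F)
    (hE : H6RP.Bdd P E) (h : PCohLib.ExactGE ((Φ.mapHomologicalComplex (ComplexShape.up ℤ)).map u) (n + 1))
    {F' : A} (g : F' ⟶ (CochainComplex.mappingCone u).cycles n) (hF' : P F')
    (hg : Epi (Φ.map (g ≫ (CochainComplex.mappingCone u).homologyπ n))) :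
    ∃ (E' : CochainComplex A ℤ) (v : E ⟶ E') (u' : E' ⟶ F), v ≫ u' = u ∧
      (∀ i, i ≠ n → IsIso (v.f i)) ∧ H6RP.Bdd P E' ∧
        PCohLib.ExactGE ((Φ.mapHomologicalComplex (ComplexShape.up ℤ)).map u') n := by
  obtain ⟨a, b, hab⟩ := hE.1
  let C := CochainComplex.mappingCone u
  let eC := CochainComplex.mappingCone.mapHomologicalComplexIso u Φ
  let eH : ∀ i, ((Φ.mapHomologicalComplex (ComplexShape.up ℤ)).obj C).homology i ≅ Φ.obj (C.homology i) :=
    fun i => (C.sc i).mapHomologyIso Φ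
  let S := (HomologicalComplex.single A (ComplexShape.up ℤ) n).obj F'
  let j : S ⟶ C := HomologicalComplex.mkHomFromSingle (g ≫ C.iCycles n) (fun k _ => by simp)
  have hjn : (HomologicalComplex.singleObjCyclesSelfIso (ComplexShape.up ℤ) n F').inv ≫ cyclesMap j n = g := by
    rw [← cancel_mono (C.iCycles n)]
    simp [j, S]
  haveI hjH : Epi (Φ.map (homologyMap j n)) := by
    have h1 : ((HomologicalComplex.singleObjCyclesSelfIso (ComplexShape.up ℤ) n F').inv ≫ S.homologyπ n) ≫
        homologyMap j n = g ≫ C.homologyπ n := by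
      rw [Category.assoc, homologyπ_naturality, reassoc_of% hjn]
    haveI : Epi (Φ.map ((HomologicalComplex.singleObjCyclesSelfIso (ComplexShape.up ℤ) n F').inv ≫
        S.homologyπ n) ≫ Φ.map (homologyMap j n)) := by
      rw [← Functor.map_comp, h1]; exact hg
    exact epi_of_epi (Φ.map ((HomologicalComplex.singleObjCyclesSelfIso (ComplexShape.up ℤ) n F').inv ≫
        S.homologyπ n)) _
  have hSz : ∀ i, i ≠ n → IsZero (S.X i) := fun i hi => HomologicalComplex.isZero_single_obj_X _ _ _ _ hi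
  have hCz : ∀ i, n < i → IsZero (((Φ.mapHomologicalComplex (ComplexShape.up ℤ)).obj C).homology i) := fun i hi =>
    ((exactAt_iff_isZero_homology _ i).1 (h i (by omega))).of_iso
      ((HomologicalComplex.homologyFunctor _ _ i).mapIso eC)
  have hSz' : ∀ i, n < i → IsZero (((Φ.mapHomologicalComplex (ComplexShape.up ℤ)).obj S).homology i) := fun i hi =>
    ShortComplex.isZero_homology_of_isZero_X₂ _ (Φ.map_isZero (hSz i (by omega)))
  have hj : PCohLib.ExactGE ((Φ.mapHomologicalComplex (ComplexShape.up ℤ)).map j) n := by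
    rw [PCohLib.exactGE_iff]
    refine ⟨fun i hi => ⟨0, (hSz' i hi).eq_of_src _ _, (hCz i hi).eq_of_src _ _⟩, ?_⟩
    have hn : ((Φ.mapHomologicalComplex (ComplexShape.up ℤ)).obj S).sc n = (S.sc n).map Φ := rfl
    have heq := ShortComplex.mapHomologyIso_hom_naturality
      ((HomologicalComplex.shortComplexFunctor _ (ComplexShape.up ℤ) n).map j) Φ
    haveI : Epi (ShortComplex.homologyMap (Φ.mapShortComplex.map
        ((HomologicalComplex.shortComplexFunctor _ (ComplexShape.up ℤ) n).map j)) ≫ (eH n).hom) := by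
      rw [show (eH n).hom = ((C.sc n).mapHomologyIso Φ).hom from rfl]
      erw [heq]
      exact @epi_comp _ _ _ _ _ _ inferInstance _ hjH
    exact (epi_comp_iff_of_epi _ _).1 (show Epi (𝟙 _ ≫ homologyMap ((Φ.mapHomologicalComplex (ComplexShape.up ℤ)).map j) n) by
      rw [Category.id_comp]
      exact (epi_comp_iff_of_isIso _ (eH n).hom).1 this)
  refine ⟨PCohLib.Ext.cx u j, PCohLib.Ext.v u j, PCohLib.Ext.map u j, PCohLib.Ext.v_map u j,
    fun i hi => PCohLib.Ext.isIso_v u j i (hSz i hi),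
    ⟨⟨min a n, max b n, fun i hi => ?_⟩, fun i => ?_⟩, fun i hi => ?_⟩
  · haveI := PCohLib.Ext.isIso_v u j i (hSz i (by omega))
    exact (hab i (by omega)).of_iso (asIso ((PCohLib.Ext.v u j).f i)).symm
  · by_cases hin : i = n
    · subst hin
      exact P.prop_of_iso (biprod.isoProd _ _).symm (hprod _ _ (hE.2 i)
        (P.prop_of_iso (HomologicalComplex.singleObjXSelf _ i F').symm hF'))
    · haveI := PCohLib.Ext.isIso_v u j i (hSz i hin)
      exact P.prop_of_iso (asIso ((PCohLib.Ext.v u j).f i)) (hE.2 i)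
  · exact (hj i hi).of_iso ((CochainComplex.mappingCone.mapHomologicalComplexIso j Φ).symm ≪≫
      (Φ.mapHomologicalComplex (ComplexShape.up ℤ)).mapIso (PCohLib.Ext.coneIso u j).symm ≪≫
      CochainComplex.mappingCone.mapHomologicalComplexIso (PCohLib.Ext.map u j) Φ)

end ExtStep

variable {R : CommRingCat.{u}} (U : (Spec R).Opens)

/-- The restriction to an open of the associated module. -/
abbrev phi : ModuleCat.{u} R ⥤ (U : Scheme.{u}).Modules :=
  tilde.functor R ⋙ Scheme.Modules.restrictFunctor U.ι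

/-- Finite free modules. -/
def FinFree : ObjectProperty (ModuleCat.{u} R) := fun M => Module.Finite R M ∧ Module.Free R M

instance : (FinFree (R := R)).IsClosedUnderIsomorphisms where
  of_iso e h := by
    haveI := h.1
    haveI := h.2
    exact ⟨Module.Finite.equiv e.toLinearEquiv, Module.Free.of_equiv e.toLinearEquiv⟩

theorem finFree_of_isZero {M : ModuleCat.{u} R} (h : IsZero M) : FinFree M := by
  haveI := ModuleCat.subsingleton_of_isZero h
  exact ⟨inferInstance, inferInstance⟩

theorem finFree_prod (M N : ModuleCat.{u} R) (hM : FinFree M) (hN : FinFree N) : FinFree (M ⨯ N) := by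
  haveI := hM.1
  haveI := hM.2
  haveI := hN.1
  haveI := hN.2
  exact (FinFree (R := R)).prop_of_iso ((ModuleCat.biprodIsoProd M N).symm ≪≫ biprod.isoProd M N)
    ⟨inferInstanceAs (Module.Finite R (M × N)), inferInstanceAs (Module.Free R (M × N))⟩

theorem exists_tilde_iso_freeMod {M : ModuleCat.{u} R} (h : FinFree M) :
    ∃ n : ℕ, Nonempty (tilde M ≅ FlatMod.freeMod (Spec R) n) := by
  haveI := h.1
  haveI := h.2
  classical
  let b := Module.Free.chooseBasis R M
  let ι := Module.Free.ChooseBasisIndex R M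
  let e : M ≅ ModuleCat.of R (ULift.{u} (Fin (Fintype.card ι)) →₀ R) :=
    (b.repr ≪≫ₗ Finsupp.domLCongr ((Fintype.equivFin ι).trans Equiv.ulift.symm)).toModuleIso
  exact ⟨Fintype.card ι, ⟨(tilde.functor R).mapIso e ≪≫ tildeFinsupp (R := R) _ ≪≫ (QCoh.freeModIso _ _).symm⟩⟩

theorem isFinLocFree_phi {M : ModuleCat.{u} R} (h : FinFree M) : FlatMod.IsFinLocFree ((phi U).obj M) := by
  obtain ⟨n, ⟨e⟩⟩ := exists_tilde_iso_freeMod h
  exact KFlatLib.isFinLocFree_restrict U
    (H23.PullPush.isFinLocFree_of_iso e.symm (KFlatLib.isFinLocFree_freeMod n))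

/-- Finiteness of sections passes to the image open. -/
theorem finite_restrict {X : Scheme.{u}} (W : X.Opens) (M : X.Modules) (V : (W : Scheme.{u}).Opens)
    (h : Module.Finite Γ(W, V) Γ(M.restrict W.ι, V)) :
    Module.Finite Γ(X, W.ι ''ᵁ V) Γ(M, W.ι ''ᵁ V) :=
  haveI : RingHomSurjective (W.ι.appIso V).inv.hom :=
    ⟨(W.ι.appIso V).symm.commRingCatIsoToRingEquiv.surjective⟩
  Module.Finite.of_surjective (σ := (W.ι.appIso V).inv.hom)
    ({ toFun := fun x => (M.restrictAppIso W.ι V).hom x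
       map_add' := fun a b => map_add _ a b
       map_smul' := fun r x => Scheme.Modules.smul_restrictAppIso_hom_apply W.ι M V r x } :
      Γ(M.restrict W.ι, V) →ₛₗ[(W.ι.appIso V).inv.hom] Γ(M, W.ι ''ᵁ V))
    fun x => ⟨(M.restrictAppIso W.ι V).inv x, rfl⟩

/-- A functor preserving cokernels sends a map with killed cokernel to an epimorphism. -/
theorem epi_map_of_isZero_cokernel {C : Type*} [Category C] [Abelian C] {D : Type*} [Category D] [Abelian D]
    (F : C ⥤ D) [F.PreservesZeroMorphisms] [PreservesFiniteColimits F] {X Y : C} (f : X ⟶ Y)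
    (h : IsZero (F.obj (cokernel f))) : Epi (F.map f) :=
  Preadditive.epi_of_isZero_cokernel _ (h.of_iso (PreservesCokernel.iso F f).symm)

/-- The functor preserves finite colimits. -/
theorem phi_preservesFiniteColimits : PreservesFiniteColimits (phi U) := by
  haveI : PreservesColimitsOfSize.{0, 0} (Scheme.Modules.restrictFunctor U.ι) :=
    (Scheme.Modules.restrictAdjunction U.ι).leftAdjoint_preservesColimits
  haveI : PreservesColimitsOfSize.{0, 0} (tilde.functor R) :=
    tilde.adjunction.leftAdjoint_preservesColimits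
  exact ⟨fun _ => inferInstance⟩

variable (hU : IsCompact (U : Set (Spec R)))

include hU in
/-- Finitely many elements generate over the open. -/
theorem exists_gens (N : ModuleCat.{u} R) (hft : CohB1.IsFT ((phi U).obj N)) :
    ∃ T : Finset N, ∀ (F : ModuleCat.{u} R) (f : F ⟶ N), (∀ t ∈ T, ∃ a, f a = t) → Epi ((phi U).map f) := by
  classical
  obtain ⟨s, hs⟩ : ∃ s : Finset R, (∀ g ∈ s, PrimeSpectrum.basicOpen g ≤ U) ∧
      ∀ x ∈ U, ∃ g ∈ s, x ∈ PrimeSpectrum.basicOpen g := by
    choose g hg hxg using fun x : U => PrimeSpectrum.isTopologicalBasis_basic_opens.exists_subset_of_mem_open x.2 U.2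
    choose r hr using hg
    obtain ⟨t, ht⟩ := hU.elim_finite_subcover (fun x : U => (PrimeSpectrum.basicOpen (r x) : Set (PrimeSpectrum R)))
      (fun x => (PrimeSpectrum.basicOpen (r x)).2) (fun x hx => Set.mem_iUnion.2 ⟨⟨x, hx⟩, by
        have := (hxg ⟨x, hx⟩).1
        rwa [← hr ⟨x, hx⟩] at this⟩)
    refine ⟨t.image r, fun a ha => ?_, fun x hx => ?_⟩
    · obtain ⟨x, -, rfl⟩ := Finset.mem_image.1 ha
      intro y hy
      exact (hxg x).2 (hr x ▸ hy)
    · obtain ⟨y, hy, hxy⟩ := Set.mem_iUnion₂.1 (ht hx)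
      exact ⟨r y, Finset.mem_image_of_mem r hy, hxy⟩
  have hq : Coh.IsQCoh ((phi U).obj N) :=
    QCoh.isQCoh_restrict U.ι (QCoh.isQCoh_spec_iff.2 ⟨N, ⟨Iso.refl _⟩⟩)
  have hgen : ∀ g ∈ s, ∃ T : Finset N, ∀ y : N, ∃ k : ℕ, g ^ k • y ∈ Submodule.span R (T : Set N) := by
    intro g hg
    let D : (Spec R).Opens := PrimeSpectrum.basicOpen g
    have hD : IsAffineOpen D := by
      have := (isAffineOpen_top (Spec R)).basicOpen ((Scheme.ΓSpecIso R).inv g)
      rwa [basicOpen_eq_of_affine] at this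
    have hDU : D ≤ U := hs.1 g hg
    have hV : IsAffineOpen (U.ι ⁻¹ᵁ D) := by
      rw [← Scheme.Hom.isAffineOpen_iff_of_isOpenImmersion U.ι, Scheme.Hom.image_preimage_eq_opensRange_inf,
        Scheme.Opens.opensRange_ι, inf_eq_right.2 hDU]
      exact hD
    have hfin := QCoh.finite_of_isFT hq hft hV
    have hO : U.ι ''ᵁ (U.ι ⁻¹ᵁ D) = D := by
      rw [Scheme.Hom.image_preimage_eq_opensRange_inf, Scheme.Opens.opensRange_ι, inf_eq_right.2 hDU]
    have hfin' := finite_restrict U (tilde N) (U.ι ⁻¹ᵁ D) hfin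
    rw [hO] at hfin'
    let φ : N →ₗ[R] Γ(tilde N, D) := (tilde.toOpen N D).hom
    haveI : IsLocalizedModule.Away g φ := inferInstanceAs (IsLocalizedModule.Away g (tilde.toOpen N (PrimeSpectrum.basicOpen g)).hom)
    haveI hloc : IsLocalization.Away g Γ(Spec R, D) :=
      inferInstanceAs (IsLocalization.Away g Γ(Spec R, PrimeSpectrum.basicOpen g))
    obtain ⟨S, hS⟩ := hfin'.fg_top
    choose num hnum using fun x : Γ(tilde N, D) => IsLocalizedModule.surj (Submonoid.powers g) φ x
    refine ⟨S.image fun x => (num x).1, fun y => ?_⟩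
    have hy : φ y ∈ Submodule.span Γ(Spec R, D) (S : Set Γ(tilde N, D)) := hS ▸ Submodule.mem_top
    have key : ∀ z ∈ Submodule.span Γ(Spec R, D) (S : Set Γ(tilde N, D)), ∃ k : ℕ,
        ∃ m ∈ Submodule.span R ((S.image fun x => (num x).1 : Finset N) : Set N),
          φ m = g ^ k • z := by
      intro z hz
      induction hz using Submodule.span_induction with
      | mem x hx =>
        obtain ⟨k, hk⟩ := (num x).2.2
        refine ⟨k, (num x).1, Submodule.subset_span (Finset.mem_image_of_mem _ hx), ?_⟩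
        rw [← hnum x]
        exact congrArg (· • x) hk.symm
      | zero => exact ⟨0, 0, zero_mem _, by simp⟩
      | add a b _ _ ha hb =>
        obtain ⟨k, m, hm, hma⟩ := ha
        obtain ⟨l, m', hm', hmb⟩ := hb
        exact ⟨k + l, g ^ l • m + g ^ k • m', add_mem (Submodule.smul_mem _ _ hm) (Submodule.smul_mem _ _ hm'), by
          rw [map_add, map_smul, map_smul, hma, hmb, smul_add, ← mul_smul, ← mul_smul, ← pow_add, ← pow_add,
            add_comm l k]⟩
      | smul r a _ ha =>
        obtain ⟨k, m, hm, hma⟩ := ha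
        obtain ⟨⟨c, ⟨_, l, rfl⟩⟩, hc⟩ := IsLocalization.surj (Submonoid.powers g) r
        refine ⟨l + k, c • m, Submodule.smul_mem _ _ hm, ?_⟩
        rw [map_smul, hma, pow_add, mul_smul, ← IsScalarTower.algebraMap_smul Γ(Spec R, D) (g ^ l) (g ^ k • r • a),
          ← IsScalarTower.algebraMap_smul Γ(Spec R, D) c (g ^ k • a),
          ← IsScalarTower.algebraMap_smul Γ(Spec R, D) (g ^ k) a,
          ← IsScalarTower.algebraMap_smul Γ(Spec R, D) (g ^ k) (r • a)]
        simp only [← mul_smul]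
        rw [← hc]
        congr 1
        ring
    obtain ⟨k, m, hm, hma⟩ := key _ hy
    rw [← map_smul] at hma
    obtain ⟨⟨_, l, rfl⟩, hl⟩ := (IsLocalizedModule.eq_iff_exists (Submonoid.powers g) φ).1 hma
    refine ⟨l + k, ?_⟩
    rw [pow_add, mul_smul]
    exact (show g ^ l • m = g ^ l • g ^ k • y from hl) ▸ Submodule.smul_mem _ _ hm
  choose T hT using hgen
  refine ⟨s.attach.biUnion fun g => T g.1 g.2, fun F f hf => ?_⟩
  let C : ModuleCat.{u} R := cokernel f
  have hC : IsZero ((phi U).obj C) := KFlatLib.isZero_of_stalk _ fun x => by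
    obtain ⟨g, hg, hxg⟩ := hs.2 (U.ι.base x) x.2
    have htors : ∀ c : C, ∃ k : ℕ, g ^ k • c = 0 := fun c => by
      obtain ⟨y, rfl⟩ := (ModuleCat.epi_iff_surjective (cokernel.π f)).1 inferInstance c
      obtain ⟨k, hk⟩ := hT g hg y
      refine ⟨k, ?_⟩
      have hle : Submodule.span R (T g hg : Set N) ≤ LinearMap.ker (cokernel.π f).hom :=
        Submodule.span_le.2 fun t ht => by
          obtain ⟨a, ha⟩ := hf t (Finset.mem_biUnion.2 ⟨⟨g, hg⟩, Finset.mem_attach _ _, ht⟩)
          rw [SetLike.mem_coe, LinearMap.mem_ker, ← ha]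
          exact ConcreteCategory.congr_hom (cokernel.condition f) a
      rw [← map_smul]
      exact hle hk
    let p : PrimeSpectrum R := U.ι.base x
    haveI : Subsingleton ((tilde C).presheaf.stalk p) := by
      refine subsingleton_of_forall_eq 0 fun z => ?_
      obtain ⟨⟨c, s'⟩, hc⟩ := IsLocalizedModule.surj p.asIdeal.primeCompl (tilde.toStalk C p).hom z
      obtain ⟨k, hk⟩ := htors c
      have h0 : (tilde.toStalk C p).hom c = 0 :=
        (IsLocalizedModule.eq_zero_iff p.asIdeal.primeCompl _).2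
          ⟨⟨g ^ k, fun hmem => hxg (p.2.mem_of_pow_mem k hmem)⟩, hk⟩
      exact ((Module.End.isUnit_iff _).1 (IsLocalizedModule.map_units (tilde.toStalk C p).hom s')).1
        ((show (s' : R) • z = (s' : R) • (0 : (tilde C).presheaf.stalk p) by
          rw [smul_zero]; exact hc.trans h0))
    haveI : Subsingleton ((DerSch.stalkFunctor (U : Scheme.{u}) x).obj ((phi U).obj C) : Type u) :=
      ((Scheme.Modules.restrictStalkNatIso U.ι x).app (tilde C)).addCommGroupIsoToAddEquiv.toEquiv.injective.subsingleton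
        (β := ((tilde C).presheaf.stalk p : Type u))
    exact ModuleCat.isZero_of_subsingleton _
  haveI := phi_preservesFiniteColimits U
  exact epi_map_of_isZero_cokernel (phi U) f hC

variable [PreservesFiniteLimits (phi U)] [PreservesFiniteColimits (phi U)]

/-- The functor on complexes. -/
abbrev phiCx : CochainComplex (ModuleCat.{u} R) ℤ ⥤ CochainComplex (U : Scheme.{u}).Modules ℤ :=
  (phi U).mapHomologicalComplex (ComplexShape.up ℤ)

include hU in
/-- One step. -/
theorem exists_free_step {E F : CochainComplex (ModuleCat.{u} R) ℤ} (n : ℤ)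
    (hF : KFlatLib.LocPC n (DCoh.toD (U : Scheme.{u}) ((phiCx U).obj F))) (u : E ⟶ F)
    (hE : H6RP.Bdd (FinFree (R := R)) E) (h : PCohLib.ExactGE ((phiCx U).map u) (n + 1)) :
    ∃ (E' : CochainComplex (ModuleCat.{u} R) ℤ) (v : E ⟶ E') (u' : E' ⟶ F), v ≫ u' = u ∧
      (∀ i, i ≠ n → IsIso (v.f i)) ∧ H6RP.Bdd (FinFree (R := R)) E' ∧ PCohLib.ExactGE ((phiCx U).map u') n := by
  classical
  obtain ⟨a, b, hab⟩ := hE.1
  have hEs : DCoh.IsStrictlyPerfect ((phiCx U).obj E) :=
    ⟨⟨a, b, fun i hi => (phi U).map_isZero (hab i hi)⟩, fun i => isFinLocFree_phi U (hE.2 i)⟩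
  let C := CochainComplex.mappingCone u
  let eC := CochainComplex.mappingCone.mapHomologicalComplexIso u (phi U)
  have hC : KFlatLib.LocPC n (DCoh.toD (U : Scheme.{u}) (CochainComplex.mappingCone ((phiCx U).map u))) :=
    KFlatLib.locPC_obj₃ _ (DerivedCategory.mappingCone_triangle_distinguished ((phiCx U).map u))
      (((KFlatLib.isPerfect_iff _).1 (H6RP.isPerfect_of_isStrictlyPerfect hEs)).locPC (n + 1)) hF
  let eH : ∀ i, ((phiCx U).obj C).homology i ≅ (phi U).obj (C.homology i) := fun i =>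
    (C.sc i).mapHomologyIso (phi U)
  have hz : ∀ i, n < i → IsZero (DCoh.HD (DCoh.toD (U : Scheme.{u}) (CochainComplex.mappingCone ((phiCx U).map u))) i) :=
    fun i hi => ((exactAt_iff_isZero_homology _ i).1 (h i (by omega))).of_iso
      ((DerivedCategory.homologyFunctorFactors _ i).app _)
  have hft : CohB1.IsFT ((phi U).obj (C.homology n)) :=
    KFlatLib.isFT_of_iso' ((DerivedCategory.homologyFunctorFactors _ n).app _ ≪≫
      (HomologicalComplex.homologyFunctor _ _ n).mapIso eC.symm ≪≫ eH n) (KFlatLib.isFT_top hC hz)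
  obtain ⟨T, hT⟩ := exists_gens U hU (C.homology n) hft
  choose c hc using fun t : C.homology n => (ModuleCat.epi_iff_surjective (C.homologyπ n)).1 inferInstance t
  let F' : ModuleCat.{u} R := ModuleCat.of R (↥T →₀ R)
  let g : F' ⟶ C.cycles n := ModuleCat.ofHom (Finsupp.linearCombination R fun t : ↥T => c t.1)
  have hF' : FinFree F' :=
    ⟨inferInstanceAs (Module.Finite R (↥T →₀ R)), inferInstanceAs (Module.Free R (↥T →₀ R))⟩
  haveI hg : Epi ((phi U).map (g ≫ C.homologyπ n)) := hT F' _ fun t ht =>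
    ⟨Finsupp.single ⟨t, ht⟩ 1, by
      show C.homologyπ n (Finsupp.linearCombination R (fun t : ↥T => c t.1) _) = t
      rw [Finsupp.linearCombination_single, one_smul, hc]⟩
  exact ext_step (phi U) (FinFree (R := R)) (fun M N => finFree_prod M N) n u hE h g hF' hg

include hU in
/-- Resolution over the open. -/
theorem exists_free_resolution (F : CochainComplex (ModuleCat.{u} R) ℤ)
    (hF : ∀ m, KFlatLib.LocPC m (DCoh.toD (U : Scheme.{u}) ((phiCx U).obj F))) :
    ∃ (E : CochainComplex (ModuleCat.{u} R) ℤ) (b : ℤ), (∀ i, b ≤ i → IsZero (E.X i)) ∧ (∀ i, FinFree (E.X i)) ∧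
      Nonempty (DerivedCategory.Q.obj ((phiCx U).obj E) ≅ DerivedCategory.Q.obj ((phiCx U).obj F)) := by
  classical
  obtain ⟨b, hb⟩ : ∃ b : ℤ, ∀ i, b ≤ i → ((phiCx U).obj F).ExactAt i := by
    choose W j hj hx P α hP hα using hF 0
    choose lo hi hlh using fun x => (hP x).1
    obtain ⟨t, ht⟩ := (isCompact_iff_compactSpace.1 hU).isCompact_univ.elim_finite_subcover
      (fun x : (U : Scheme.{u}) => Set.range (j x).base)
      (fun x => haveI := hj x; (j x).isOpenEmbedding.isOpen_range)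
      (fun x _ => Set.mem_iUnion.2 ⟨x, hx x⟩)
    obtain ⟨B, hB⟩ := (t.finite_toSet.image hi).bddAbove
    refine ⟨max B 0 + 1, fun i hi' => (exactAt_iff_isZero_homology _ _).2
      (IsZero.of_iso (KFlatLib.isZero_of_stalk _ fun x => ?_)
        ((DerivedCategory.homologyFunctorFactors _ i).app _).symm)⟩
    obtain ⟨y, hy, z, rfl⟩ := Set.mem_iUnion₂.1 (ht (Set.mem_univ x))
    haveI := hj y
    haveI := (hα y).1 i (by omega)
    have := hB ⟨y, hy, rfl⟩
    refine KFlatLib.isZero_stalk_of_restrict (j y) z ((DerSch.stalkFunctor _ z).map_isZero ?_)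
    exact (ShortComplex.isZero_homology_of_isZero_X₂ _ (hlh y i (Or.inr (by omega)))).of_iso
      ((KFlatLib.hdRhoIso (j y) _ i).symm ≪≫
        (asIso ((DerivedCategory.homologyFunctor _ i).map (α y))).symm ≪≫
        (DerivedCategory.homologyFunctorFactors _ i).app _)
  obtain ⟨E, u, hEz, hEP, hst⟩ := exists_stages (FinFree (R := R)) (F := F)
    (fun E u m => PCohLib.ExactGE ((phiCx U).map u) m) b
    (fun Z hZ u => PCohLib.exactGE_of_zero _ _ (fun i => (phi U).map_isZero (hZ i)) hb)
    (fun M hM => finFree_of_isZero hM)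
    (fun E u m hE h => exists_free_step U hU m (hF m) u hE h)
  refine ⟨E, b, hEz, hEP, ⟨@asIso _ _ _ _ (DerivedCategory.Q.map ((phiCx U).map u))
    (KFlatLib.isIso_Q_map _ ?_)⟩⟩
  rw [quasiIso_iff]
  intro i
  obtain ⟨E₁, u₁, v, m, hm, hG, hv, hvi⟩ := hst i
  let w := (phiCx U).map v
  haveI := hvi (i - 1) le_rfl
  haveI := hvi i (by omega)
  haveI := hvi (i + 1) (by omega)
  haveI : QuasiIsoAt w i := by
    rw [quasiIsoAt_iff' _ (i - 1) i (i + 1) (by simp) (by simp)]
    haveI : Epi ((HomologicalComplex.shortComplexFunctor' _ (ComplexShape.up ℤ) (i - 1) i (i + 1)).map w).τ₁ :=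
      inferInstanceAs (Epi ((phi U).map (v.f (i - 1))))
    haveI : IsIso ((HomologicalComplex.shortComplexFunctor' _ (ComplexShape.up ℤ) (i - 1) i (i + 1)).map w).τ₂ :=
      inferInstanceAs (IsIso ((phi U).map (v.f i)))
    haveI : Mono ((HomologicalComplex.shortComplexFunctor' _ (ComplexShape.up ℤ) (i - 1) i (i + 1)).map w).τ₃ :=
      inferInstanceAs (Mono ((phi U).map (v.f (i + 1))))
    exact ShortComplex.quasiIso_of_epi_of_isIso_of_mono _
  haveI : QuasiIsoAt (w ≫ (phiCx U).map u) i := by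
    rw [← Functor.map_comp, hv, quasiIsoAt_iff_isIso_homologyMap]
    exact ((PCohLib.exactGE_iff _ _).mp hG).1 i hm
  exact quasiIsoAt_of_comp_left w _ i

include hU in
/-- Pseudo-coherent objects on quasi-compact opens of affine schemes extend to complexes of finite free modules. -/
theorem exists_free_extension (E : DCoh.D (U : Scheme.{u})) (hE : ∀ m, KFlatLib.LocPC m E) :
    ∃ (G : CochainComplex (Spec R).Modules ℤ) (b : ℤ), (∀ i, b ≤ i → IsZero (G.X i)) ∧
      (∀ i, ∃ n : ℕ, Nonempty (G.X i ≅ FlatMod.freeMod (Spec R) n)) ∧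
      Nonempty (DerivedCategory.Q.obj ((DCoh.restrictCx U).obj G) ≅ E) := by
  haveI := QCoh.tilde_preservesFiniteLimits (R := R)
  haveI : CompactSpace (U : Scheme.{u}) := isCompact_iff_compactSpace.1 hU
  haveI : QuasiSeparatedSpace (U : Scheme.{u}) := QuasiSeparatedSpace.of_isOpenEmbedding U.ι.isOpenEmbedding
  have hq : DCoh.IsQCohD E := fun i =>
    KFlatLib.isQCoh_HD_of_pseudoCoherent ((KFlatLib.isPseudoCoherentD_iff (i - 1) E).2 (hE (i - 1))) i (by omega)
  obtain ⟨M, ⟨eM⟩⟩ := KFlatLib.exists_tildeD_iso (KFlatLib.isQCohD_rpush (f := U.ι) hq)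
  let F := DerivedCategory.Q.objPreimage M
  let eF : DerivedCategory.Q.obj ((phiCx U).obj F) ≅ E :=
    ((KFlatLib.rhoQ U.ι).app (((tilde.functor R).mapHomologicalComplex (ComplexShape.up ℤ)).obj F)).symm ≪≫
      (KFlatLib.rho U.ι).mapIso ((KFlatLib.toDTildeIso F).symm ≪≫
        (DCoh.tildeD R).mapIso (DerivedCategory.Q.objObjPreimageIso M) ≪≫ eM) ≪≫
      DQGen.restrictPushIso U.ι E
  obtain ⟨E', b, hz, hP, ⟨e⟩⟩ := exists_free_resolution U hU F (fun m => (hE m).of_iso eF.symm)
  exact ⟨((tilde.functor R).mapHomologicalComplex (ComplexShape.up ℤ)).obj E', b,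
    fun i hi => (tilde.functor R).map_isZero (hz i hi), fun i => exists_tilde_iso_freeMod (hP i),
    ⟨e ≪≫ eF⟩⟩

end Groth.Agent.H6CG
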