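import Groth.Agent.H9Misc.FilKInj
import Groth.Agent.TriCat.DerivedProducts
import Groth.Agent.TriCat.LiftKInj
import Groth.Agent.PCohLib.Cone
import Mathlib.Algebra.Homology.ModelCategory.Injective

/-!
# Limits of degreewise split towers of complexes
-/

set_option autoImplicit false
set_option linter.style.haveILetI false
set_option linter.unusedSectionVars false
set_option backward.isDefEq.respectTransparency false
set_option backward.isDefEq.respectTransparency.types false

universe v u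

open CategoryTheory CategoryTheory.Limits HomologicalComplex CochainComplex.HomComplex

noncomputable section

namespace Groth.Agent.H6CG

open Groth.Agent

variable {A : Type u} [Category.{v} A] [Abelian A]

/-- A degreewise limit of a tower. -/
structure IsTLim {E : ℕ → CochainComplex A ℤ} (p : ∀ n, E (n + 1) ⟶ E n) (L : CochainComplex A ℤ)
    (π : ∀ n, L ⟶ E n) : Prop where
  comm : ∀ n, π (n + 1) ≫ p n = π n
  exists_lift : ∀ (i : ℤ) {X : A} (x : ∀ n, X ⟶ (E n).X i), (∀ n, x (n + 1) ≫ (p n).f i = x n) →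
    ∃ l : X ⟶ L.X i, ∀ n, l ≫ (π n).f i = x n
  hom_ext : ∀ (i : ℤ) {X : A} (l l' : X ⟶ L.X i), (∀ n, l ≫ (π n).f i = l' ≫ (π n).f i) → l = l'

theorem IsTLim.succ {E : ℕ → CochainComplex A ℤ} {p : ∀ n, E (n + 1) ⟶ E n} {L : CochainComplex A ℤ}
    {π : ∀ n, L ⟶ E n} (h : IsTLim p L π) :
    IsTLim (E := fun n => E (n + 1)) (fun n => p (n + 1)) L (fun n => π (n + 1)) where
  comm n := h.comm (n + 1)
  exists_lift i X x hx := by
    let x' : ∀ n, X ⟶ (E n).X i := fun n => Nat.casesOn n (x 0 ≫ (p 0).f i) fun m => x m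
    obtain ⟨l, hl⟩ := h.exists_lift i x' (fun n => by
      cases n with
      | zero => rfl
      | succ m => exact hx m)
    exact ⟨l, fun n => hl (n + 1)⟩
  hom_ext i X l l' hl := h.hom_ext i l l' fun n => by
    cases n with
    | zero => rw [← h.comm 0, comp_f, ← Category.assoc, hl 0, Category.assoc]
    | succ m => exact hl m

variable [HasLimitsOfShape (Discrete ℕ) A]

section

variable {E : ℕ → CochainComplex A ℤ} (p : ∀ n, E (n + 1) ⟶ E n)

/-- The difference of the identity and the shift on the product of a tower. -/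
def tau : ∏ᶜ E ⟶ ∏ᶜ E := Pi.lift fun n => Pi.π E n - Pi.π E (n + 1) ≫ p n

theorem tau_π (n : ℕ) : tau p ≫ Pi.π E n = Pi.π E n - Pi.π E (n + 1) ≫ p n := Pi.lift_π _ _

/-- The components of a product of complexes. -/
def piLim (i : ℤ) : IsLimit (Fan.mk ((∏ᶜ E).X i) fun n => (Pi.π E n).f i) :=
  isLimitFanMkObjOfIsLimit (HomologicalComplex.eval A (ComplexShape.up ℤ) i) E (Pi.π E) (productIsProduct E)

theorem exists_tau_section (hp : ∀ n i, IsSplitEpi ((p n).f i)) (i : ℤ) :
    ∃ s : (∏ᶜ E).X i ⟶ (∏ᶜ E).X i, s ≫ (tau p).f i = 𝟙 _ := by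
  let sec : ∀ n, (E n).X i ⟶ (E (n + 1)).X i := fun n => (hp n i).exists_splitEpi.some.section_
  have hsec : ∀ n, sec n ≫ (p n).f i = 𝟙 _ := fun n => (hp n i).exists_splitEpi.some.id
  let y : ∀ n, (∏ᶜ E).X i ⟶ (E n).X i := fun n =>
    Nat.rec (motive := fun n => (∏ᶜ E).X i ⟶ (E n).X i) 0 (fun m ym => (ym - (Pi.π E m).f i) ≫ sec m) n
  have hy : ∀ m, y (m + 1) = (y m - (Pi.π E m).f i) ≫ sec m := fun m => rfl
  refine ⟨Fan.IsLimit.lift (piLim i) y, Fan.IsLimit.hom_ext (piLim i) _ _ fun n => ?_⟩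
  have hl : ∀ m, Fan.IsLimit.lift (piLim i) y ≫ (Pi.π E m).f i = y m := fun m => Fan.IsLimit.fac (piLim i) y m
  show (Fan.IsLimit.lift (piLim i) y ≫ (tau p).f i) ≫ (Pi.π E n).f i = 𝟙 _ ≫ (Pi.π E n).f i
  rw [Category.assoc, ← comp_f, tau_π, sub_f_apply, comp_f, Preadditive.comp_sub, reassoc_of% (hl (n + 1)),
    hl n, hy, Category.assoc, hsec]
  simp

variable {p} {L : CochainComplex A ℤ} {π : ∀ n, L ⟶ E n} (h : IsTLim p L π)

/-- The sequence of a tower. -/
def tSeq : ShortComplex (CochainComplex A ℤ) :=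
  ShortComplex.mk (Pi.lift π) (tau p) (Pi.hom_ext _ _ fun n => by
    rw [Category.assoc, tau_π, Preadditive.comp_sub, Pi.lift_π, Pi.lift_π_assoc, h.comm, sub_self, zero_comp])

include h in
theorem exists_splitting (hp : ∀ n i, IsSplitEpi ((p n).f i)) :
    Nonempty (∀ i, ((tSeq h).map (HomologicalComplex.eval A (ComplexShape.up ℤ) i)).Splitting) := by
  refine ⟨fun i => ?_⟩
  have hf : ∀ n, (Pi.lift π).f i ≫ (Pi.π E n).f i = (π n).f i := fun n => by
    rw [← comp_f, Pi.lift_π]
  haveI hm : Mono ((Pi.lift π).f i) := ⟨fun a b hab => h.hom_ext i a b fun n => by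
    rw [← hf n, ← Category.assoc, hab, Category.assoc]⟩
  have hker : ∀ {X : A} (t : X ⟶ (∏ᶜ E).X i), t ≫ (tau p).f i = 0 →
      ∃ l : X ⟶ L.X i, l ≫ (Pi.lift π).f i = t := fun {X} t ht => by
    obtain ⟨l, hl⟩ := h.exists_lift i (fun n => t ≫ (Pi.π E n).f i) fun n => by
      have := ht =≫ (Pi.π E n).f i
      rw [Category.assoc, ← comp_f, tau_π, sub_f_apply, comp_f, Preadditive.comp_sub, zero_comp, sub_eq_zero] at this
      exact (Category.assoc _ _ _).trans this.symm
    exact ⟨l, Fan.IsLimit.hom_ext (piLim i) _ _ fun n => by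
      show (l ≫ (Pi.lift π).f i) ≫ (Pi.π E n).f i = t ≫ (Pi.π E n).f i
      rw [Category.assoc, hf, hl]⟩
  haveI : Mono ((tSeq h).map (HomologicalComplex.eval A (ComplexShape.up ℤ) i)).f := hm
  exact ShortComplex.Splitting.ofExactOfSection _
    (ShortComplex.exact_of_f_is_kernel _ (KernelFork.IsLimit.ofι' _ _ fun t ht =>
      ⟨(hker t ht).choose, (hker t ht).choose_spec⟩))
    (exists_tau_section p hp i).choose (exists_tau_section p hp i).choose_spec hm

theorem tSeq_shortExact (hp : ∀ n i, IsSplitEpi ((p n).f i)) : (tSeq h).ShortExact := by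
  obtain ⟨σ⟩ := exists_splitting h hp
  exact HomologicalComplex.shortExact_of_degreewise_shortExact _ fun i => (σ i).shortExact

/-- Products of K-injective complexes are K-injective. -/
theorem isKInjective_pi (M : ℕ → CochainComplex A ℤ) [∀ j, (M j).IsKInjective] : (∏ᶜ M).IsKInjective := by
  refine ⟨fun {K} f hK => ⟨HomotopyCategory.homotopyOfEq _ _
    (TriCat.quotient_hom_ext_pi f 0 fun j => HomotopyCategory.eq_of_homotopy _ _ ?_)⟩⟩
  rw [zero_comp]
  exact CochainComplex.IsKInjective.homotopyZero _ hK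

theorem isKInjective_lim (hp : ∀ n i, IsSplitEpi ((p n).f i)) [∀ n, (E n).IsKInjective]
    (h : IsTLim p L π) : L.IsKInjective := by
  obtain ⟨σ⟩ := exists_splitting h hp
  haveI : (tSeq h).X₂.IsKInjective := isKInjective_pi E
  haveI : (tSeq h).X₃.IsKInjective := isKInjective_pi E
  exact H9Misc.FilKInj.kInjective_X₁ (tSeq h) σ

theorem exists_isTLim : ∃ (L : CochainComplex A ℤ) (π : ∀ n, L ⟶ E n), IsTLim p L π := by
  refine ⟨kernel (tau p), fun n => kernel.ι (tau p) ≫ Pi.π E n, fun n => ?_, fun i X x hx => ?_, fun i X l l' hl => ?_⟩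
  · have := congrArg (· ≫ Pi.π E n) (kernel.condition (tau p))
    simp only [Category.assoc, tau_π, Preadditive.comp_sub, zero_comp, sub_eq_zero] at this
    rw [Category.assoc]; exact this.symm
  · let t : X ⟶ (∏ᶜ E).X i := Fan.IsLimit.lift (piLim i) x
    have htn : ∀ n, t ≫ (Pi.π E n).f i = x n := fun n => Fan.IsLimit.fac (piLim i) x n
    have ht : t ≫ (tau p).f i = 0 := Fan.IsLimit.hom_ext (piLim i) _ _ fun n => by
      show (t ≫ (tau p).f i) ≫ (Pi.π E n).f i = 0 ≫ (Pi.π E n).f i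
      rw [Category.assoc, ← comp_f, tau_π, sub_f_apply, comp_f, Preadditive.comp_sub, reassoc_of% (htn (n + 1)),
        htn n, hx n, sub_self, zero_comp]
    let k := PreservesKernel.iso (HomologicalComplex.eval A (ComplexShape.up ℤ) i) (tau p)
    refine ⟨kernel.lift _ t ht ≫ k.inv, fun n => ?_⟩
    rw [← htn n, comp_f]
    have hk : k.hom ≫ kernel.ι ((HomologicalComplex.eval A (ComplexShape.up ℤ) i).map (tau p)) =
        (kernel.ι (tau p)).f i := by simp [k]
    rw [← hk, Category.assoc, Category.assoc, Iso.inv_hom_id_assoc]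
    erw [kernel.lift_ι_assoc]
  · have hm : Mono ((kernel.ι (tau p)).f i) :=
      inferInstanceAs (Mono ((HomologicalComplex.eval A (ComplexShape.up ℤ) i).map (kernel.ι (tau p))))
    refine (cancel_mono ((kernel.ι (tau p)).f i)).1 (Fan.IsLimit.hom_ext (piLim i) _ _ fun n => ?_)
    show (l ≫ _) ≫ (Pi.π E n).f i = (l' ≫ _) ≫ (Pi.π E n).f i
    rw [Category.assoc, Category.assoc]
    simpa using hl n

end

variable [HasExactLimitsOfShape (Discrete ℕ) A]

/-- Products of complexes exact in a degree are exact in that degree. -/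
theorem exactAt_pi (M : ℕ → CochainComplex A ℤ) (i : ℤ) (hM : ∀ n, (M n).ExactAt i) :
    (∏ᶜ M).ExactAt i := by
  let X : ℤ → (Discrete ℕ ⥤ A) := fun n => Discrete.functor fun j => (M j).X n
  let d : ∀ m n : ℤ, X m ⟶ X n := fun m n => Discrete.natTrans fun j => (M j.as).d m n
  let i₀ := (ComplexShape.up ℤ).prev i
  let i₁ := (ComplexShape.up ℤ).next i
  let S : ShortComplex (Discrete ℕ ⥤ A) :=
    ShortComplex.mk (d i₀ i) (d i i₁) (by ext ⟨j⟩; exact (M j).d_comp_d _ _ _)
  have hS : S.Exact := by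
    rw [ShortComplex.exact_iff_isZero_homology]
    refine Functor.isZero _ ?_
    rintro ⟨j⟩
    let E := (evaluation (Discrete ℕ) A).obj ⟨j⟩
    exact IsZero.of_iso ((ShortComplex.exact_iff_isZero_homology _).1
      (show (S.map E).Exact from hM j)) (S.mapHomologyIso E).symm
  have hl : (S.map lim).Exact := hS.map lim
  have iso : ∀ n : ℤ, IsIso (limit.lift (X n) (Fan.mk _ fun j => (Pi.π M j).f n)) := fun n =>
    inferInstanceAs (IsIso (piComparison (HomologicalComplex.eval A (ComplexShape.up ℤ) n) M))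
  let eX : ∀ n : ℤ, (∏ᶜ M).X n ≅ limit (X n) := fun n => @asIso _ _ _ _ _ (iso n)
  have hd : ∀ m n : ℤ, (eX m).hom ≫ limMap (d m n) = (∏ᶜ M).d m n ≫ (eX n).hom := fun m n => by
    refine limit.hom_ext fun ⟨j⟩ => ?_
    have hX : ∀ n, (eX n).hom ≫ limit.π (X n) ⟨j⟩ = (Pi.π M j).f n := fun n => limit.lift_π _ _
    rw [Category.assoc, Category.assoc, hX, limMap_π, reassoc_of% hX, ← HomologicalComplex.Hom.comm]
    rfl
  exact (ShortComplex.exact_iff_of_iso (S₁ := (∏ᶜ M).sc i) (S₂ := S.map lim)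
    (ShortComplex.isoMk (eX i₀) (eX i) (eX i₁) (hd i₀ i) (hd i i₁))).2 hl

/-- A limit of a degreewise split tower of complexes eventually exact in degrees `i - 1` and `i`. -/
theorem exactAt_lim (i : ℤ) (N : ℕ) : ∀ {E : ℕ → CochainComplex A ℤ} {p : ∀ n, E (n + 1) ⟶ E n}
    {L : CochainComplex A ℤ} {π : ∀ n, L ⟶ E n}, (∀ n i, IsSplitEpi ((p n).f i)) → IsTLim p L π →
      (∀ n, N ≤ n → (E n).ExactAt (i - 1) ∧ (E n).ExactAt i) → L.ExactAt i := by
  induction N with
  | zero =>
    intro E p L π hp h hex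
    rw [exactAt_iff_isZero_homology]
    have hS := tSeq_shortExact h hp
    have h1 := exactAt_pi E (i - 1) fun n => (hex n (Nat.zero_le _)).1
    have h2 := exactAt_pi E i fun n => (hex n (Nat.zero_le _)).2
    exact (hS.homology_exact₁ (i - 1) i (by simp)).isZero_X₂
      (((exactAt_iff_isZero_homology _ _).1 h1).eq_of_src _ _)
      (((exactAt_iff_isZero_homology _ _).1 h2).eq_of_tgt _ _)
  | succ N ih =>
    intro E p L π hp h hex
    exact ih (fun n => hp (n + 1)) h.succ fun n hn => hex (n + 1) (by omega)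

/-- A map to the limit of a tower which is eventually an isomorphism on homology in each degree. -/
theorem quasiIso_lim {E : ℕ → CochainComplex A ℤ} {p : ∀ n, E (n + 1) ⟶ E n} {L : CochainComplex A ℤ}
    {π : ∀ n, L ⟶ E n} (hp : ∀ n i, IsSplitEpi ((p n).f i)) (h : IsTLim p L π) {K : CochainComplex A ℤ}
    (f : ∀ n, K ⟶ E n) (hf : ∀ n, f (n + 1) ≫ p n = f n) (q : K ⟶ L) (hq : ∀ n, q ≫ π n = f n)
    (hiso : ∀ i : ℤ, ∃ N : ℕ, ∀ n, N ≤ n → IsIso (homologyMap (f n) i)) : QuasiIso q := by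
  let T : ℕ → CochainComplex A ℤ := fun n => CochainComplex.mappingCone (f n)
  let pT : ∀ n, T (n + 1) ⟶ T n := fun n =>
    CochainComplex.mappingCone.map (f (n + 1)) (f n) (𝟙 K) (p n) (by rw [hf, Category.id_comp])
  let πT : ∀ n, CochainComplex.mappingCone q ⟶ T n := fun n =>
    CochainComplex.mappingCone.map q (f n) (𝟙 K) (π n) (by rw [hq, Category.id_comp])
  have hfst : ∀ {a b : CochainComplex A ℤ} (u : K ⟶ a) (w : K ⟶ b) (c : a ⟶ b) (e : u ≫ c = 𝟙 K ≫ w)
      (i j : ℤ) (hij : i + 1 = j), (CochainComplex.mappingCone.map u w (𝟙 K) c e).f i ≫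
        (CochainComplex.mappingCone.fst w).1.v i j hij = (CochainComplex.mappingCone.fst u).1.v i j hij :=
    fun u w c e i j hij => by
      rw [CochainComplex.mappingCone.ext_from_iff _ j i hij]
      simp [CochainComplex.mappingCone.map]
  have hsnd : ∀ {a b : CochainComplex A ℤ} (u : K ⟶ a) (w : K ⟶ b) (c : a ⟶ b) (e : u ≫ c = 𝟙 K ≫ w)
      (i : ℤ), (CochainComplex.mappingCone.map u w (𝟙 K) c e).f i ≫
        (CochainComplex.mappingCone.snd w).v i i (add_zero i) =
          (CochainComplex.mappingCone.snd u).v i i (add_zero i) ≫ c.f i :=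
    fun u w c e i => by
      rw [CochainComplex.mappingCone.ext_from_iff _ (i + 1) i rfl]
      simp [CochainComplex.mappingCone.map]
  have hT : IsTLim pT (CochainComplex.mappingCone q) πT := by
    refine ⟨fun n => ?_, fun i X x hx => ?_, fun i X l l' hl => ?_⟩
    · ext i
      rw [CochainComplex.mappingCone.ext_to_iff _ i (i + 1) rfl]
      simp only [comp_f, Category.assoc, pT, πT, hfst, hsnd, reassoc_of% hsnd, true_and]
      rw [← comp_f, h.comm]
    · obtain ⟨l, hl⟩ := h.exists_lift i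
        (fun n => x n ≫ (CochainComplex.mappingCone.snd (f n)).v i i (add_zero i)) fun n => by
          rw [← hx n, Category.assoc, Category.assoc, hsnd]
      have ha : ∀ n, x n ≫ (CochainComplex.mappingCone.fst (f n)).1.v i (i + 1) rfl =
          x 0 ≫ (CochainComplex.mappingCone.fst (f 0)).1.v i (i + 1) rfl := fun n => by
        induction n with
        | zero => rfl
        | succ n ih => rw [← ih, ← hx n, Category.assoc, hfst]
      refine ⟨x 0 ≫ (CochainComplex.mappingCone.fst (f 0)).1.v i (i + 1) rfl ≫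
          (CochainComplex.mappingCone.inl q).v (i + 1) i (by omega) +
        l ≫ (CochainComplex.mappingCone.inr q).f i, fun n => ?_⟩
      rw [CochainComplex.mappingCone.ext_to_iff _ i (i + 1) rfl]
      simp only [Category.assoc, πT, hfst, hsnd, Preadditive.add_comp]
      refine ⟨?_, ?_⟩
      · rw [ha n]; simp
      · rw [← hl n]; simp
    · rw [CochainComplex.mappingCone.ext_to_iff _ i (i + 1) rfl]
      refine ⟨?_, h.hom_ext i _ _ fun n => ?_⟩
      · have := hl 0 =≫ (CochainComplex.mappingCone.fst (f 0)).1.v i (i + 1) rfl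
        simpa [πT, hfst] using this
      · have := hl n =≫ (CochainComplex.mappingCone.snd (f n)).v i i (add_zero i)
        simpa [πT, hsnd] using this
  have hpT : ∀ n i, IsSplitEpi ((pT n).f i) := fun n i => by
    obtain ⟨s⟩ := (hp n i).exists_splitEpi
    refine IsSplitEpi.mk' ⟨(CochainComplex.mappingCone.fst (f n)).1.v i (i + 1) rfl ≫
        (CochainComplex.mappingCone.inl (f (n + 1))).v (i + 1) i (by omega) +
      (CochainComplex.mappingCone.snd (f n)).v i i (add_zero i) ≫ s.section_ ≫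
        (CochainComplex.mappingCone.inr (f (n + 1))).f i, ?_⟩
    rw [CochainComplex.mappingCone.ext_to_iff _ i (i + 1) rfl]
    simp [pT, hfst, hsnd]
  refine PCohLib.quasiIso_iff_exactGE q |>.2 fun m i _ => ?_
  choose N hN using hiso
  refine exactAt_lim i (max (N (i - 1)) (max (N i) (N (i + 1)))) hpT hT fun n hn => ?_
  simp only [T, PCohLib.exactAt_cone_iff]
  haveI := hN (i - 1) n (by omega)
  haveI := hN i n (by omega)
  haveI := hN (i + 1) n (by omega)
  rw [show i - 1 + 1 = i by omega]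
  exact ⟨⟨inferInstance, inferInstance⟩, ⟨inferInstance, inferInstance⟩⟩

section Tower

variable [EnoughInjectives A] (K : CochainComplex A ℤ)

/-- Resolution of the `n`-th truncation. -/
structure Res (n : ℕ) where
  /-- the complex -/
  I : CochainComplex A ℤ
  /-- the map -/
  g : K.truncGE (-(n : ℤ)) ⟶ I
  qis : QuasiIso g
  inj : ∀ i, Injective (I.X i)
  bdd : ∃ a : ℤ, ∀ i, i < a → IsZero (I.X i)

omit [HasLimitsOfShape (Discrete ℕ) A] [HasExactLimitsOfShape (Discrete ℕ) A] in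
theorem exists_next (n : ℕ) (R : Res K n) : ∃ (R' : Res K (n + 1)) (p : R'.I ⟶ R.I),
    (∀ i, IsSplitEpi (p.f i)) ∧
      (K.πTruncGE (-((n + 1 : ℕ) : ℤ)) ≫ R'.g) ≫ p = K.πTruncGE (-(n : ℤ)) ≫ R.g := by
  let m₁ : ℤ := -((n + 1 : ℕ) : ℤ)
  haveI : (K.truncGE (-(n : ℤ))).IsStrictlyGE m₁ :=
    CochainComplex.isStrictlyGE_of_ge _ m₁ (-(n : ℤ)) (by omega)
  let t : K.truncGE m₁ ⟶ K.truncGE (-(n : ℤ)) :=
    CochainComplex.truncGEMap (K.πTruncGE (-(n : ℤ))) m₁ ≫ inv ((K.truncGE (-(n : ℤ))).πTruncGE m₁)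
  have ht : K.πTruncGE m₁ ≫ t = K.πTruncGE (-(n : ℤ)) := by
    rw [← Category.assoc, CochainComplex.πTruncGE_naturality, Category.assoc, IsIso.hom_inv_id, Category.comp_id]
  obtain ⟨a, ha⟩ := R.bdd
  haveI : R.I.IsStrictlyGE a := (CochainComplex.isStrictlyGE_iff _ _).2 ha
  haveI := R.inj
  haveI : R.I.IsKInjective := CochainComplex.isKInjective_of_injective R.I a
  haveI : (K.truncGE m₁).IsStrictlyGE (m₁ - 1 + 1) := by rw [sub_add_cancel]; infer_instance
  obtain ⟨J, α, hm, hq, hJ, hJa⟩ :=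
    CochainComplex.Plus.modelCategoryQuillen.exists_mono_quasiIso_injective (K.truncGE m₁) (m₁ - 1) (m₁ - 1 + 1) rfl
  haveI := hm
  haveI := hq
  obtain ⟨β, hβ⟩ := TriCat.exists_extension_of_mono_quasiIso α (t ≫ R.g)
  let Z : CochainComplex A ℤ :=
    CochainComplex.of (fun i => R.I.X (i - 1)) (fun _ => 0) (fun _ => by simp)
  let c : Cochain Z R.I (-1) := Cochain.mk fun p q hpq =>
    eqToHom (congrArg R.I.X (show p - 1 = q by omega))
  let z : Cocycle Z R.I 0 := Cocycle.mk (δ (-1) 0 c) 1 (by simp) (δ_δ _ _ _ c)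
  let γ₀ : Z ⟶ R.I := Cocycle.homOf z
  have hc : δ (-1) 0 c = Cochain.ofHom (𝟙 Z ≫ γ₀) := by
    rw [Category.id_comp]
    exact (Cocycle.cochain_ofHom_homOf_eq_coe z).symm
  let D := CochainComplex.mappingCone (𝟙 Z)
  let γ : D ⟶ R.I := CochainComplex.mappingCone.desc (𝟙 Z) c γ₀ hc
  let W := J ⊞ D
  have hWX : ∀ i, Nonempty (W.X i ≅ J.X i ⊞ D.X i) := fun i =>
    ⟨(HomologicalComplex.eval A (ComplexShape.up ℤ) i).mapBiprod J D⟩
  have hDinj : ∀ i, Injective (D.X i) := fun i => by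
    haveI : Injective (Z.X (i + 1)) := R.inj _
    haveI : Injective (Z.X i) := R.inj _
    haveI := HomologicalComplex.HasHomotopyCofiber.hasBinaryBiproduct (𝟙 Z) i (i + 1) rfl
    exact Injective.of_iso (HomologicalComplex.homotopyCofiber.XIsoBiprod (𝟙 Z) i (i + 1) rfl).symm inferInstance
  have hDex : ∀ i, D.ExactAt i := fun i =>
    (PCohLib.quasiIso_iff_exactGE (𝟙 Z)).1 inferInstance i i le_rfl
  have hin : QuasiIso (biprod.inl : J ⟶ W) := by
    rw [quasiIso_iff]
    intro i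
    rw [quasiIsoAt_iff_isIso_homologyMap]
    refine ⟨⟨homologyMap (biprod.fst : W ⟶ J) i, by rw [← homologyMap_comp, biprod.inl_fst, homologyMap_id], ?_⟩⟩
    have h0 : homologyMap (biprod.inr : D ⟶ W) i = 0 :=
      ((exactAt_iff_isZero_homology _ _).1 (hDex i)).eq_of_src _ _
    rw [← homologyMap_comp, ← homologyMap_id, ← biprod.total, homologyMap_add,
      homologyMap_comp (biprod.snd : W ⟶ D) biprod.inr, h0, comp_zero, add_zero]
  haveI := hin
  refine ⟨⟨W, α ≫ biprod.inl, inferInstance, fun i => ?_, ⟨min a (m₁ - 1), fun i hi => ?_⟩⟩,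
    biprod.desc β γ, fun i => ?_, ?_⟩
  · haveI := hJ i
    haveI := hDinj i
    exact Injective.of_iso (hWX i).some.symm inferInstance
  · refine IsZero.of_iso ?_ (hWX i).some
    rw [IsZero.iff_id_eq_zero]
    refine biprod.hom_ext _ _ ((J.isZero_of_isStrictlyGE (m₁ - 1) i (by omega)).eq_of_tgt _ _) (IsZero.eq_of_tgt ?_ _ _)
    exact (CochainComplex.mappingCone.isZero_X_iff (𝟙 Z) i).2
      ⟨ha _ (by omega), ha _ (by omega)⟩
  · refine IsSplitEpi.mk' ⟨eqToHom (congrArg R.I.X (show i = i + 1 - 1 by omega)) ≫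
      (CochainComplex.mappingCone.inl (𝟙 Z)).v (i + 1) i (by omega) ≫ (biprod.inr : D ⟶ W).f i, ?_⟩
    rw [Category.assoc, Category.assoc, ← comp_f, biprod.inr_desc, CochainComplex.mappingCone.inl_v_desc_f]
    simp [c]
  · show (K.πTruncGE m₁ ≫ α ≫ biprod.inl) ≫ biprod.desc β γ = _
    rw [Category.assoc, Category.assoc, biprod.inl_desc, hβ, reassoc_of% ht]

omit [HasLimitsOfShape (Discrete ℕ) A] [HasExactLimitsOfShape (Discrete ℕ) A] in
theorem nonempty_res_zero : Nonempty (Res K 0) := by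
  haveI : (K.truncGE (-((0 : ℕ) : ℤ))).IsStrictlyGE (-((0 : ℕ) : ℤ) - 1 + 1) := by
    rw [sub_add_cancel]; infer_instance
  obtain ⟨J, α, hm, hq, hJ, hJa⟩ := CochainComplex.Plus.modelCategoryQuillen.exists_mono_quasiIso_injective
    (K.truncGE (-((0 : ℕ) : ℤ))) (-((0 : ℕ) : ℤ) - 1) (-((0 : ℕ) : ℤ) - 1 + 1) rfl
  haveI := hJa
  exact ⟨⟨J, α, hq, hJ, _, fun i hi => J.isZero_of_isStrictlyGE (-((0 : ℕ) : ℤ) - 1) i hi⟩⟩

/-- Existence of K-injective resolutions. -/
theorem exists_kInjective : ∃ (I : CochainComplex A ℤ) (f : K ⟶ I), I.IsKInjective ∧ QuasiIso f := by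
  choose nxt p hp hpg using exists_next K
  let st : (n : ℕ) → Res K n := fun n => Nat.rec (motive := Res K) (nonempty_res_zero K).some (fun n s => nxt n s) n
  let E : ℕ → CochainComplex A ℤ := fun n => (st n).I
  let pE : ∀ n, E (n + 1) ⟶ E n := fun n => p n (st n)
  have hpE : ∀ n i, IsSplitEpi ((pE n).f i) := fun n i => hp n (st n) i
  haveI : ∀ n, (E n).IsKInjective := fun n => by
    obtain ⟨a, ha⟩ := (st n).bdd
    haveI : (E n).IsStrictlyGE a := (CochainComplex.isStrictlyGE_iff _ _).2 ha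
    haveI := (st n).inj
    exact CochainComplex.isKInjective_of_injective (E n) a
  let f : ∀ n, K ⟶ E n := fun n => K.πTruncGE (-(n : ℤ)) ≫ (st n).g
  have hf : ∀ n, f (n + 1) ≫ pE n = f n := fun n => hpg n (st n)
  obtain ⟨L, π, hL⟩ := exists_isTLim (p := pE)
  let q₀ : ∀ i, K.X i ⟶ L.X i := fun i =>
    (hL.exists_lift i (fun n => (f n).f i) fun n => by rw [← comp_f, hf]).choose
  have hq₀ : ∀ i n, q₀ i ≫ (π n).f i = (f n).f i := fun i n =>
    (hL.exists_lift i (fun n => (f n).f i) fun n => by rw [← comp_f, hf]).choose_spec n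
  let q : K ⟶ L :=
    { f := q₀
      comm' := fun i j _ => hL.hom_ext j _ _ fun n => by
        rw [Category.assoc, Category.assoc, ← (π n).comm, reassoc_of% (hq₀ i n), hq₀, (f n).comm] }
  refine ⟨L, q, isKInjective_lim hpE hL, quasiIso_lim hpE hL f hf q (fun n => by ext i; exact hq₀ i n) fun i => ?_⟩
  refine ⟨(-i).toNat, fun n hn => ?_⟩
  haveI : QuasiIsoAt (K.πTruncGE (-(n : ℤ))) i := CochainComplex.quasiIsoAt_πTruncGE K _ i (by omega)
  haveI := (st n).qis
  show IsIso (homologyMap (K.πTruncGE (-(n : ℤ)) ≫ (st n).g) i)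
  rw [homologyMap_comp]
  infer_instance

end Tower

end Groth.Agent.H6CG
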